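import Cfsg.Agent.Perm.Kazarin
import Cfsg.Agent.Solv.Hall

/-! Groups which are a product of a Sylow 2-subgroup and an abelian complement. -/

set_option autoImplicit false

namespace CfsgLib.Base.Small

open scoped Pointwise

universe u

/-- The decomposition into a Sylow 2-subgroup and an abelian complement. -/
def TwoAbelian (G : Type*) [Group G] : Prop :=
  ∃ (S : Sylow 2 G) (C : Subgroup G), IsMulCommutative ↥C ∧ Subgroup.IsComplement' (S : Subgroup G) C

variable {G : Type u} [Group G] [Finite G]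

theorem coprime_two_of_complement {S : Sylow 2 G} {C : Subgroup G}
    (h : Subgroup.IsComplement' (S : Subgroup G) C) : ¬ 2 ∣ Nat.card C := by
  have : Fact (Nat.Prime 2) := ⟨Nat.prime_two⟩
  have h1 := h.card_mul
  have h2 := (S : Subgroup G).card_mul_index
  have h3 : Nat.card C = (S : Subgroup G).index :=
    Nat.eq_of_mul_eq_mul_left Nat.card_pos (h1.trans h2.symm)
  rw [h3]
  exact S.not_dvd_index

theorem twoAbelian_of {P : Sylow 2 G} {D : Subgroup G} (hD : IsMulCommutative ↥D)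
    (hodd : ¬ 2 ∣ Nat.card D) (hidx : ∃ k, D.index = 2 ^ k) : TwoAbelian G := by
  have : Fact (Nat.Prime 2) := ⟨Nat.prime_two⟩
  refine ⟨P, D, hD, ?_⟩
  obtain ⟨k, hk⟩ := hidx
  have hcop : (Nat.card (P : Subgroup G)).Coprime (Nat.card D) := by
    obtain ⟨i, hi⟩ := IsPGroup.iff_card.1 P.isPGroup'
    rw [hi]
    exact Nat.Coprime.pow_left _ ((Nat.prime_two.coprime_iff_not_dvd).2 hodd)
  have hc : Nat.card (P : Subgroup G) = 2 ^ k := by
    have h1 := D.card_mul_index
    rw [P.card_eq_multiplicity, ← h1, hk, Nat.factorization_mul Nat.card_pos.ne' (by positivity),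
      Finsupp.add_apply, Nat.factorization_eq_zero_of_not_dvd hodd, zero_add,
      Nat.Prime.factorization_pow Nat.prime_two, Finsupp.single_eq_same]
  refine Subgroup.isComplement'_of_coprime ?_ hcop
  rw [← D.card_mul_index, hk, hc, mul_comm]

theorem TwoAbelian.quotient (h : TwoAbelian G) (N : Subgroup G) [N.Normal] : TwoAbelian (G ⧸ N) := by
  have : Fact (Nat.Prime 2) := ⟨Nat.prime_two⟩
  obtain ⟨S, C, hC, hSC⟩ := h
  obtain ⟨P⟩ := (inferInstance : Nonempty (Sylow 2 (G ⧸ N)))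
  refine twoAbelian_of (P := P) (D := C.map (QuotientGroup.mk' N)) ⟨⟨?_⟩⟩ ?_ ?_
  · rintro ⟨_, a, ha, rfl⟩ ⟨_, b, hb, rfl⟩
    refine Subtype.ext ?_
    show QuotientGroup.mk' N a * QuotientGroup.mk' N b = QuotientGroup.mk' N b * QuotientGroup.mk' N a
    rw [← map_mul, ← map_mul]
    exact congrArg _ (congrArg Subtype.val (hC.is_comm.comm ⟨a, ha⟩ ⟨b, hb⟩))
  · exact fun h2 => coprime_two_of_complement hSC (h2.trans (C.card_map_dvd _))
  · have h1 : (C.map (QuotientGroup.mk' N)).index ∣ C.index :=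
      C.index_map_dvd (QuotientGroup.mk'_surjective N)
    obtain ⟨i, hi⟩ := IsPGroup.iff_card.1 S.isPGroup'
    rw [hSC.index_eq_card, hi] at h1
    obtain ⟨j, -, hj⟩ := (Nat.dvd_prime_pow Nat.prime_two).1 h1
    exact ⟨j, hj⟩

theorem solvable_aux : ∀ (n : ℕ) (G : Type u) [Group G] [Finite G], Nat.card G = n → TwoAbelian G →
    Group.IsSolvable G := by
  intro n
  induction n using Nat.strong_induction_on with
  | _ n ih =>
  intro G _ _ hn h
  have : Fact (Nat.Prime 2) := ⟨Nat.prime_two⟩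
  obtain ⟨S, C, hC, hSC⟩ := h
  obtain ⟨i, hi⟩ := IsPGroup.iff_card.1 S.isPGroup'
  by_cases hbot : C = ⊥
  · have hG : IsPGroup 2 G := by
      refine IsPGroup.of_card (n := i) ?_
      have := hSC.card_mul
      rw [hbot, Subgroup.card_bot, mul_one] at this
      rw [← this, hi]
    have := hG.isNilpotent
    exact inferInstance
  obtain ⟨x, hxC, hx1⟩ := C.bot_or_exists_ne_one.resolve_left hbot
  have hidx : (Subgroup.centralizer ({x} : Set G)).index ∣ 2 ^ i := by
    rw [← hi, ← hSC.index_eq_card]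
    refine Subgroup.index_dvd_of_le fun c hc => ?_
    exact Subgroup.mem_centralizer_singleton_iff.2
      (congrArg Subtype.val (hC.is_comm.comm ⟨c, hc⟩ ⟨x, hxC⟩))
  obtain ⟨k, -, hk⟩ := (Nat.dvd_prime_pow Nat.prime_two).1 hidx
  set N := Subgroup.normalClosure ({x} : Set G)
  have hN : Group.IsSolvable N := CfsgLib.Perm.Kazarin.isSolvable_normalClosure_of_class_pow Nat.prime_two hk
  have hlt : Nat.card (G ⧸ N) < n := by
    rw [← hn, N.card_eq_card_quotient_mul_card_subgroup]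
    refine lt_mul_of_one_lt_right Nat.card_pos ((Subgroup.one_lt_card_iff_ne_bot N).2 fun hb => hx1 ?_)
    have : x ∈ N := Subgroup.subset_normalClosure rfl
    rwa [hb, Subgroup.mem_bot] at this
  have hQ : Group.IsSolvable (G ⧸ N) := ih _ hlt _ rfl (TwoAbelian.quotient ⟨S, C, hC, hSC⟩ N)
  exact Group.isSolvable_of_ker_le_range N.subtype (QuotientGroup.mk' N)
    (by rw [QuotientGroup.ker_mk', Subgroup.range_subtype])

theorem TwoAbelian.isSolvable (h : TwoAbelian G) : Group.IsSolvable G := solvable_aux _ G rfl h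

theorem TwoAbelian.subgroup (h : TwoAbelian G) (L : Subgroup G) : TwoAbelian ↥L := by
  have : Fact (Nat.Prime 2) := ⟨Nat.prime_two⟩
  have := h.isSolvable
  obtain ⟨S, C, hC, hSC⟩ := h
  obtain ⟨i, hi⟩ := IsPGroup.iff_card.1 S.isPGroup'
  set π : Set ℕ := {q | q ≠ 2} with hπ
  have hCπ : CfsgLib.Solv.PiNat π (Nat.card C) := fun q _ hqd hq => coprime_two_of_complement hSC (hq ▸ hqd)
  have hCi : CfsgLib.Solv.PiNat πᶜ C.index := fun q hq hqd => by
    rw [hSC.index_eq_card, hi] at hqd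
    simp [hπ, (Nat.prime_dvd_prime_iff_eq hq Nat.prime_two).1 (hq.dvd_of_dvd_pow hqd)]
  obtain ⟨D, hD, hDi⟩ := CfsgLib.Solv.exists_hall (π := π)
    (CfsgLib.Solv.PiSolvable.of_isSolvable (G := L) π)
  obtain ⟨g, hg⟩ := CfsgLib.Solv.hall_le_conj (CfsgLib.Solv.PiSolvable.of_isSolvable (G := G) π) hCπ hCi
    (U := D.map L.subtype)
    (by rw [← Nat.card_congr (D.equivMapOfInjective _ Subtype.val_injective).toEquiv]; exact hD)
  obtain ⟨P⟩ := (inferInstance : Nonempty (Sylow 2 L))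
  refine twoAbelian_of (P := P) (D := D) ⟨⟨fun a b => Subtype.ext (Subtype.ext ?_)⟩⟩ ?_ ?_
  · have ha : ((a : L) : G) ∈ MulAut.conj g • C := hg ⟨a, a.2, rfl⟩
    have hb : ((b : L) : G) ∈ MulAut.conj g • C := hg ⟨b, b.2, rfl⟩
    rw [Subgroup.mem_pointwise_smul_iff_inv_smul_mem] at ha hb
    have h1 : ((MulAut.conj g)⁻¹ • ((a : L) : G)) * ((MulAut.conj g)⁻¹ • ((b : L) : G)) =
        ((MulAut.conj g)⁻¹ • ((b : L) : G)) * ((MulAut.conj g)⁻¹ • ((a : L) : G)) :=
      congrArg Subtype.val (hC.is_comm.comm ⟨_, ha⟩ ⟨_, hb⟩)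
    rw [← smul_mul', ← smul_mul'] at h1
    exact MulAction.injective (MulAut.conj g)⁻¹ h1
  · exact fun h2 => hD 2 Nat.prime_two h2 rfl
  · refine ⟨D.index.primeFactorsList.length, ?_⟩
    refine Nat.eq_prime_pow_of_unique_prime_dvd Subgroup.index_ne_zero_of_finite fun hd hdd => ?_
    have := hDi _ hd hdd
    simpa [hπ] using this

end CfsgLib.Base.Small
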