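import Mathlib

/-! Element orders of the alternating group of degree five. -/

set_option autoImplicit false

namespace CfsgLib.Base.Small

theorem perm5_orders : ∀ g : Equiv.Perm (Fin 5), Equiv.Perm.sign g = 1 →
    g ^ 2 = 1 ∨ g ^ 3 = 1 ∨ g ^ 5 = 1 := by decide +kernel

theorem alt5_orderOf (g : alternatingGroup (Fin 5)) :
    orderOf g = 1 ∨ orderOf g = 2 ∨ orderOf g = 3 ∨ orderOf g = 5 := by
  rw [← Subgroup.orderOf_coe]
  rcases perm5_orders _ g.2 with h | h | h
  · rcases (Nat.dvd_prime Nat.prime_two).1 (orderOf_dvd_of_pow_eq_one h) with e | e <;> simp [e]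
  · rcases (Nat.dvd_prime Nat.prime_three).1 (orderOf_dvd_of_pow_eq_one h) with e | e <;> simp [e]
  · rcases (Nat.dvd_prime (by norm_num : Nat.Prime 5)).1 (orderOf_dvd_of_pow_eq_one h) with e | e <;>
      simp [e]

theorem alt5_exists : ∀ d ∈ ({1, 2, 3, 5} : Set ℕ),
    ∃ g : alternatingGroup (Fin 5), orderOf g = d := by
  intro d hd
  rcases hd with rfl | rfl | rfl | rfl
  · exact ⟨1, orderOf_one⟩
  all_goals
    haveI : Fact (Nat.Prime 2) := ⟨Nat.prime_two⟩
    haveI : Fact (Nat.Prime 3) := ⟨Nat.prime_three⟩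
    haveI : Fact (Nat.Prime 5) := ⟨by norm_num⟩
    apply exists_prime_orderOf_dvd_card'
    rw [nat_card_alternatingGroup]
    simp [Nat.factorial]

end CfsgLib.Base.Small
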