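import Mathlib

/-! The element orders of `A₆` and of extensions of `2`-groups by `SL₂(4)`. -/

set_option autoImplicit false
set_option linter.style.haveILetI false

namespace CfsgLib.Base.Small.AltSixSpectrum

open Matrix

theorem perm6_orders : ∀ g : Equiv.Perm (Fin 6), Equiv.Perm.sign g = 1 →
    g ^ 4 = 1 ∨ g ^ 3 = 1 ∨ g ^ 5 = 1 := by decide +kernel

theorem mem_of_pow {G : Type*} [Monoid G] {g : G} (h : g ^ 4 = 1 ∨ g ^ 3 = 1 ∨ g ^ 5 = 1) :
    orderOf g ∈ ({1, 2, 3, 4, 5} : Set ℕ) := by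
  simp only [Set.mem_insert_iff, Set.mem_singleton_iff]
  rcases h with h | h | h <;>
  · have hd := orderOf_dvd_of_pow_eq_one h
    have hle := Nat.le_of_dvd (by norm_num) hd
    interval_cases hh : orderOf g <;> simp_all

theorem alt6_exists : ∀ d ∈ ({1, 2, 3, 4, 5} : Finset ℕ), ∃ g : Equiv.Perm (Fin 6),
    Equiv.Perm.sign g = 1 ∧ g ^ d = 1 ∧ ∀ m < d, 0 < m → g ^ m ≠ 1 := by
  intro d hd
  fin_cases hd
  · exact ⟨1, by decide +kernel⟩
  · exact ⟨List.formPerm [0, 1] * List.formPerm [2, 3], by decide +kernel⟩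
  · exact ⟨List.formPerm [0, 1, 2], by decide +kernel⟩
  · exact ⟨List.formPerm [0, 1, 2, 3] * List.formPerm [4, 5], by decide +kernel⟩
  · exact ⟨List.formPerm [0, 1, 2, 3, 4], by decide +kernel⟩

theorem range_alt6 : Set.range (orderOf : alternatingGroup (Fin 6) → ℕ) = {1, 2, 3, 4, 5} := by
  ext d
  constructor
  · rintro ⟨⟨g, hg⟩, rfl⟩
    rw [Subgroup.orderOf_mk]
    exact mem_of_pow (perm6_orders g hg)
  · intro hd
    obtain ⟨g, h1, h2, h3⟩ := alt6_exists d (by simpa using hd)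
    refine ⟨⟨g, h1⟩, ?_⟩
    rw [← Subgroup.orderOf_coe]
    refine (orderOf_eq_iff ?_).2 ⟨h2, h3⟩
    rcases hd with rfl | rfl | rfl | rfl | rfl <;> norm_num

variable {F : Type*} [Field F]

/-- The last row is `(0, 0, 1)`. -/
def Affine (M : Matrix.SpecialLinearGroup (Fin 3) F) : Prop :=
  (M : Matrix (Fin 3) (Fin 3) F) 2 0 = 0 ∧ (M : Matrix (Fin 3) (Fin 3) F) 2 1 = 0 ∧ (M : Matrix (Fin 3) (Fin 3) F) 2 2 = 1

theorem affine_one : Affine (1 : Matrix.SpecialLinearGroup (Fin 3) F) := by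
  simp [Affine]

theorem affine_mul {M N : Matrix.SpecialLinearGroup (Fin 3) F} (hM : Affine M) (hN : Affine N) : Affine (M * N) := by
  obtain ⟨a, b, c⟩ := hM
  obtain ⟨d, e, f⟩ := hN
  simp [Affine, Matrix.mul_apply, Fin.sum_univ_three, a, b, c, d, e, f]

theorem cubic {M : Matrix.SpecialLinearGroup (Fin 3) F} (hM : Affine M) :
    (M : Matrix (Fin 3) (Fin 3) F) ^ 3 =
      ((M : Matrix (Fin 3) (Fin 3) F) 0 0 + (M : Matrix (Fin 3) (Fin 3) F) 1 1 + 1) • (M : Matrix (Fin 3) (Fin 3) F) ^ 2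
        - ((M : Matrix (Fin 3) (Fin 3) F) 0 0 + (M : Matrix (Fin 3) (Fin 3) F) 1 1 + 1) • (M : Matrix (Fin 3) (Fin 3) F) + 1 := by
  obtain ⟨h0, h1, h2⟩ := hM
  have hd := M.2
  rw [Matrix.det_fin_three] at hd
  simp only [h0, h1, h2] at hd
  set A := (M : Matrix (Fin 3) (Fin 3) F) with hA
  ext i j
  fin_cases i <;> fin_cases j <;>
    simp [pow_succ, Matrix.mul_apply, Fin.sum_univ_three, h0, h1, h2]
  · linear_combination (1 - A 0 0) * hd
  · linear_combination (-A 0 1) * hd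
  · linear_combination (-A 0 2) * hd
  · linear_combination (-A 1 0) * hd
  · linear_combination (1 - A 1 1) * hd
  · linear_combination (-A 1 2) * hd

variable [Fintype F]

theorem two_zero (hF : Fintype.card F = 4) : (2 : F) = 0 := by
  have h : (4 : F) = 0 := by rw [show (4 : F) = ((4 : ℕ) : F) by norm_num, ← hF, Nat.cast_card_eq_zero]
  have h' : (2 : F) * 2 = 0 := by linear_combination h
  rcases mul_eq_zero.mp h' with h | h <;> exact h

theorem pow_cases (hF : Fintype.card F = 4) {M : Matrix.SpecialLinearGroup (Fin 3) F} (hM : Affine M) :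
    ((M : Matrix (Fin 3) (Fin 3) F) 0 0 + (M : Matrix (Fin 3) (Fin 3) F) 1 1 = 0 ∧ M ^ 4 = 1) ∨
    ((M : Matrix (Fin 3) (Fin 3) F) 0 0 + (M : Matrix (Fin 3) (Fin 3) F) 1 1 = 1 ∧ M ^ 3 = 1) ∨
    ((M : Matrix (Fin 3) (Fin 3) F) 0 0 + (M : Matrix (Fin 3) (Fin 3) F) 1 1 ≠ 0 ∧
      (M : Matrix (Fin 3) (Fin 3) F) 0 0 + (M : Matrix (Fin 3) (Fin 3) F) 1 1 ≠ 1 ∧ M ^ 5 = 1) := by
  have h3 := cubic hM
  have h2 := two_zero hF
  set A := (M : Matrix (Fin 3) (Fin 3) F) with hA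
  set t := A 0 0 + A 1 1 with ht
  have h4 : A ^ 4 = (t + 1) • A ^ 3 - (t + 1) • A ^ 2 + A := by
    rw [pow_succ', h3, mul_add, mul_sub, mul_smul_comm, mul_smul_comm, mul_one, ← pow_succ', ← sq]
    try rw [← h3]
  by_cases h0 : t = 0
  · refine Or.inl ⟨h0, Subtype.ext ?_⟩
    rw [Matrix.SpecialLinearGroup.coe_pow, Matrix.SpecialLinearGroup.coe_one, h4, h3, h0]
    simp; abel
  by_cases h1 : t = 1
  · refine Or.inr (Or.inl ⟨h1, Subtype.ext ?_⟩)
    rw [Matrix.SpecialLinearGroup.coe_pow, Matrix.SpecialLinearGroup.coe_one, h3, h1,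
      show (1 : F) + 1 = 0 by rw [one_add_one_eq_two, h2]]
    simp
  refine Or.inr (Or.inr ⟨h0, h1, Subtype.ext ?_⟩)
  have hq : t ^ 2 + t + 1 = 0 := by
    have h := FiniteField.pow_card_sub_one_eq_one t h0
    rw [hF] at h
    have : (t - 1) * (t ^ 2 + t + 1) = 0 := by linear_combination h
    exact (mul_eq_zero.mp this).resolve_left (sub_ne_zero.mpr h1)
  have h4' : A ^ 4 = ((t + 1) * (t + 1) - (t + 1)) • A ^ 2 + (1 - (t + 1) * (t + 1)) • A + (t + 1) • (1 : Matrix (Fin 3) (Fin 3) F) := by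
    rw [h4, h3]; module
  rw [Matrix.SpecialLinearGroup.coe_pow, Matrix.SpecialLinearGroup.coe_one]
  show A ^ 5 = 1
  rw [pow_succ', h4', mul_add, mul_add, mul_smul_comm, mul_smul_comm, mul_smul_comm, mul_one, ← pow_succ', ← sq, h3]
  simp only [pow_two]
  match_scalars
  all_goals first
    | linear_combination hq - h2 | linear_combination t * hq - t * h2
    | linear_combination (t + 1) * h2 - (t + 1) * hq

end CfsgLib.Base.Small.AltSixSpectrum
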