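import Cfsg.Agent.Base.Small.ThreePrimes
import Cfsg.Agent.Solv.MinimalNormal

/-! A coclique of three primes meets a solvable normal subgroup in at most one prime. -/

set_option autoImplicit false

namespace CfsgLib.Base.Small

variable {G : Type*} [Group G] [Finite G]

theorem solvable_coclique {T : Finset ℕ} (hT : T.card = 3) (hprime : ∀ a ∈ T, a.Prime)
    (hdvd : ∀ a ∈ T, a ∣ Nat.card G)
    (hno : ∀ a ∈ T, ∀ b ∈ T, a ≠ b → ¬ ∃ x : G, orderOf x = a * b)
    (K : Subgroup G) [hKn : K.Normal] (hK : Group.IsSolvable K) :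
    (T.filter fun a => a ∣ Nat.card K).card ≤ 1 := by
  classical
  by_contra hcon
  set S : Set (Subgroup G) := {L | L.Normal ∧ L ≤ K ∧ (T.filter fun a => a ∣ Nat.card L).card ≤ 1}
  obtain ⟨L, hL⟩ := S.toFinite.exists_maximal ⟨⊥, inferInstance, bot_le, by
    rw [Subgroup.card_bot, Finset.filter_false_of_mem]
    · simp
    · exact fun a ha => (hprime a ha).not_dvd_one⟩
  obtain ⟨⟨hLn, hLK, hLc⟩, hmax⟩ := hL
  haveI := hLn
  set q := QuotientGroup.mk' L with hq
  have hne : K.map q ≠ ⊥ := by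
    rw [Ne, Subgroup.map_eq_bot_iff, QuotientGroup.ker_mk']
    intro hle
    exact hcon (le_antisymm hle hLK ▸ hLc)
  haveI : (K.map q).Normal := hKn.map q (QuotientGroup.mk'_surjective L)
  obtain ⟨Mb, hMb, hMbK⟩ := CfsgLib.Solv.exists_isMinimalNormal_le (K.map q) hne
  have hsK : Group.IsSolvable (K.map q) :=
    Group.isSolvable_of_surjective (f := q.subgroupMap K) (q.subgroupMap_surjective K)
  have hsM : Group.IsSolvable Mb :=
    Group.isSolvable_of_isSolvable_injective (f := Subgroup.inclusion hMbK) (Subgroup.inclusion_injective hMbK)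
  obtain ⟨x, hx, -, hxM⟩ := CfsgLib.Solv.exists_prime_exponent_of_minimal_solvable hMb hsM
  haveI := Fact.mk hx
  set M : Subgroup G := Mb.comap q with hM
  haveI : Mb.Normal := hMb.1
  haveI hMn : M.Normal := inferInstance
  have hLM : L ≤ M := fun a ha => by
    rw [hM, Subgroup.mem_comap, show q a = 1 from (QuotientGroup.eq_one_iff a).2 ha]
    exact one_mem _
  have hMK : M ≤ K := by
    refine (Subgroup.comap_mono hMbK).trans ?_
    rw [Subgroup.comap_map_eq, QuotientGroup.ker_mk', sup_eq_left.2 hLK]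
  obtain ⟨k, hk⟩ := IsPGroup.iff_card.1 hxM
  have hcard : Nat.card M = Nat.card L * x ^ k := by
    have h1 := Subgroup.index_comap_of_surjective Mb (f := q) (QuotientGroup.mk'_surjective L)
    have h2 := M.card_mul_index
    rw [hM, h1, ← hM, L.card_eq_card_quotient_mul_card_subgroup, ← Mb.card_mul_index, hk] at h2
    exact Nat.eq_of_mul_eq_mul_right (Nat.pos_of_ne_zero Subgroup.index_ne_zero_of_finite)
      (by rw [h2]; ring)
  have h2 : ¬ (T.filter fun a => a ∣ Nat.card M).card ≤ 1 := by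
    intro hle
    have h3 := hmax ⟨hMn, hMK, hle⟩ hLM
    have h4 : M.map q = ⊥ := by
      rw [Subgroup.map_eq_bot_iff, QuotientGroup.ker_mk']; exact h3
    rw [hM, Subgroup.map_comap_eq_self_of_surjective (QuotientGroup.mk'_surjective L)] at h4
    exact hMb.2.1 h4
  set A := T.filter fun a => a ∣ Nat.card L with hA
  set B := T.filter fun a => a ∣ Nat.card M with hB
  have hBA : B ⊆ insert x A := by
    intro a ha
    obtain ⟨haT, had⟩ := Finset.mem_filter.1 ha
    rw [hcard] at had
    rcases (hprime a haT).dvd_mul.1 had with h | h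
    · exact Finset.mem_insert_of_mem (Finset.mem_filter.2 ⟨haT, h⟩)
    · rw [(Nat.prime_dvd_prime_iff_eq (hprime a haT) hx).1 ((hprime a haT).dvd_of_dvd_pow h)]
      exact Finset.mem_insert_self _ _
  have hB2 : B.card ≤ A.card + 1 := (Finset.card_le_card hBA).trans (Finset.card_insert_le _ _)
  obtain ⟨a, ha⟩ : A.Nonempty := Finset.card_pos.1 (by omega)
  obtain ⟨haT, had⟩ := Finset.mem_filter.1 ha
  obtain ⟨b, hbB, hba⟩ := Finset.exists_mem_ne (show 1 < B.card by omega) a
  obtain ⟨hbT, hbd⟩ := Finset.mem_filter.1 hbB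
  have hbL : ¬ b ∣ Nat.card L := fun h =>
    hba (Finset.card_le_one.1 hLc b (Finset.mem_filter.2 ⟨hbT, h⟩) a ha)
  obtain ⟨c, hcT, hcB⟩ : ∃ c ∈ T, c ∉ B := by
    by_contra hall
    push Not at hall
    have := Finset.card_le_card (fun c hc => hall c hc : T ⊆ B)
    omega
  have hcM : ¬ c ∣ Nat.card M := fun h => hcB (Finset.mem_filter.2 ⟨hcT, h⟩)
  have hca : c ≠ a := fun h => hcM (h ▸ had.trans (Subgroup.card_dvd_of_le hLM))
  have hcb : c ≠ b := fun h => hcM (h ▸ hbd)
  have hbq : b ∣ Nat.card M / Nat.card L := by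
    rw [hcard, Nat.mul_div_cancel_left _ Nat.card_pos]
    rw [hcard] at hbd
    exact ((hprime b hbT).dvd_mul.1 hbd).resolve_left hbL
  have hcq : c ∣ Nat.card G / Nat.card M := by
    obtain ⟨t, ht⟩ := Subgroup.card_subgroup_dvd_card M
    rw [ht, Nat.mul_div_cancel_left _ Nat.card_pos]
    have h5 := hdvd c hcT
    rw [ht] at h5
    exact ((hprime c hcT).dvd_mul.1 h5).resolve_left hcM
  rcases exists_adjacent L M hLM (hprime a haT) (hprime b hbT) (hprime c hcT) hba.symm hca.symm
    hcb.symm had hbq hcq with h | h | h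
  · exact hno a haT b hbT hba.symm h
  · exact hno a haT c hcT hca.symm h
  · exact hno b hbT c hcT hcb.symm h

end CfsgLib.Base.Small
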