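import Cfsg.Agent.Solv.FittingBasic
import Cfsg.Agent.Fus.CoreBasic
import Cfsg.Agent.Perm.PComp
import Mathlib.GroupTheory.SpecificGroups.Quaternion

/-! Solvable groups whose 2-core has a normal cyclic subgroup of index at most two. -/

set_option autoImplicit false

namespace CfsgLib.Base.Small

variable {G : Type*} [Group G] [Finite G]

/-- An element of odd order centralizes a normal cyclic 2-subgroup. -/
theorem odd_commute_cyclic {C : Subgroup G} [C.Normal] [IsCyclic C] (hC : IsPGroup 2 C) {g : G}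
    (hg : Odd (orderOf g)) {c : G} (hc : c ∈ C) : g * c * g⁻¹ = c := by
  have : Fact (Nat.Prime 2) := ⟨Nat.prime_two⟩
  obtain ⟨a, ha⟩ := IsPGroup.iff_card.1 hC
  have hA : ∃ j, Nat.card (MulAut C) = 2 ^ j := by
    rcases a with _ | a
    · exact ⟨0, by rw [IsCyclic.card_mulAut, ha]; decide⟩
    · exact ⟨a, by rw [IsCyclic.card_mulAut, ha, Nat.totient_prime_pow Nat.prime_two (Nat.succ_pos a)]; simp⟩
  obtain ⟨j, hj⟩ := hA
  let φ : G →* MulAut C := MulAut.conjNormal
  have h1 : orderOf (φ g) ∣ orderOf g := orderOf_map_dvd φ g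
  have h2 : orderOf (φ g) ∣ 2 ^ j := hj ▸ orderOf_dvd_natCard _
  have h3 : φ g = 1 := orderOf_eq_one_iff.1
    (Nat.eq_one_of_dvd_coprimes ((Nat.coprime_two_right.2 hg).pow_right j) h1 h2)
  have e := congrArg (fun f : MulAut C => ((f ⟨c, hc⟩ : C) : G)) h3
  simpa [φ, MulAut.conjNormal_apply] using e

theorem isPGroup_of_cyclic_core [Group.IsSolvable G] (hO : Cfsg.oddCore G = ⊥) {C : Subgroup G}
    [C.Normal] [IsCyclic C] (hCT : C ≤ Cfsg.pCore 2 G)
    (hidx : (C.subgroupOf (Cfsg.pCore 2 G)).index ≤ 2) : IsPGroup 2 G := by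
  classical
  have : Fact (Nat.Prime 2) := ⟨Nat.prime_two⟩
  set T := Cfsg.pCore 2 G with hT
  haveI hTn : T.Normal := CfsgLib.Fus.normal_pCore 2
  have hT2 : IsPGroup 2 T := CfsgLib.Solv.pCore_isPGroup G 2
  have hC2 : IsPGroup 2 C := hT2.to_le hCT
  -- it is enough that odd order elements are trivial
  suffices hodd : ∀ g : G, Odd (orderOf g) → g = 1 by
    intro g
    obtain ⟨a, m, hm, hd⟩ := Nat.exists_eq_two_pow_mul_odd (orderOf_pos g).ne'
    refine ⟨a, hodd _ ?_⟩
    rw [orderOf_pow_of_dvd (pow_ne_zero _ two_ne_zero) ⟨m, hd⟩, hd,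
      Nat.mul_div_cancel_left _ (pow_pos two_pos _)]
    exact hm
  intro g hg
  have hfix : ∀ t ∈ T, g * t * g⁻¹ = t := by
    intro t ht
    set d := t⁻¹ * (g * t * g⁻¹) with hd
    have hdC : d ∈ C := by
      have hsub : ∀ x ∈ T, ∀ y ∈ T, x ∉ C → y ∉ C → x⁻¹ * y ∈ C := by
        intro x hx y hy hxC hyC
        rcases Nat.lt_or_ge (C.subgroupOf T).index 2 with h1 | h1
        · have h0 : (C.subgroupOf T).index = 1 := by
            have := (C.subgroupOf T).index_ne_zero_of_finite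
            omega
          rw [Subgroup.index_eq_one, Subgroup.subgroupOf_eq_top] at h0
          exact absurd (h0 hx) hxC
        · have h2 : (C.subgroupOf T).index = 2 := le_antisymm hidx h1
          have hm := (Subgroup.mul_mem_iff_of_index_two h2 (a := ⟨x⁻¹, inv_mem hx⟩) (b := ⟨y, hy⟩)).2
            ⟨fun h => absurd (inv_mem_iff.1 (Subgroup.mem_subgroupOf.1 h)) hxC,
              fun h => absurd (Subgroup.mem_subgroupOf.1 h) hyC⟩
          exact Subgroup.mem_subgroupOf.1 hm
      by_cases htC : t ∈ C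
      · rw [hd, odd_commute_cyclic hC2 hg htC, inv_mul_cancel]
        exact one_mem C
      · refine hsub t ht _ (hTn.conj_mem t ht g) htC fun h => htC ?_
        simpa [mul_assoc] using (inferInstance : C.Normal).conj_mem _ h g⁻¹
    have hpow : ∀ k : ℕ, g ^ k * t * (g ^ k)⁻¹ = t * d ^ k := by
      intro k
      induction k with
      | zero => simp
      | succ k ih =>
        calc g ^ (k + 1) * t * (g ^ (k + 1))⁻¹ = g * (g ^ k * t * (g ^ k)⁻¹) * g⁻¹ := by
              rw [pow_succ', mul_inv_rev]; group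
          _ = (g * t * g⁻¹) * (g * d ^ k * g⁻¹) := by rw [ih]; group
          _ = t * d * d ^ k := by
              rw [odd_commute_cyclic hC2 hg (pow_mem hdC k), hd, mul_inv_cancel_left]
          _ = t * d ^ (k + 1) := by rw [mul_assoc, ← pow_succ']
    have h1 := hpow (orderOf g)
    rw [pow_orderOf_eq_one, one_mul, inv_one, mul_one, left_eq_mul] at h1
    obtain ⟨j, hj⟩ := IsPGroup.iff_orderOf.1 hC2 ⟨d, hdC⟩
    rw [Subgroup.orderOf_mk] at hj
    have h2 : d = 1 := orderOf_eq_one_iff.1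
      (Nat.eq_one_of_dvd_coprimes ((Nat.coprime_two_right.2 hg).pow_right j)
        (orderOf_dvd_of_pow_eq_one h1) (dvd_of_eq hj))
    rw [hd, inv_mul_eq_one] at h2
    exact h2.symm
  have hgT : g ∈ T := CfsgLib.Solv.centralizer_pCore_le hO
    (Subgroup.mem_centralizer_iff.2 fun t ht => (mul_inv_eq_iff_eq_mul.1 (hfix t ht)).symm)
  obtain ⟨j, hj⟩ := IsPGroup.iff_orderOf.1 hT2 ⟨g, hgT⟩
  rw [Subgroup.orderOf_mk] at hj
  exact orderOf_eq_one_iff.1
    (Nat.eq_one_of_dvd_coprimes ((Nat.coprime_two_right.2 hg).pow_right j) dvd_rfl (dvd_of_eq hj))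

theorem quaternion_mem_rotations {N : ℕ} [NeZero N] {x : QuaternionGroup N} (h : orderOf x ≠ 4) :
    x ∈ Subgroup.zpowers (QuaternionGroup.a 1 : QuaternionGroup N) := by
  rcases x with i | i
  · exact ⟨(i.val : ℤ), by
      show QuaternionGroup.a 1 ^ (i.val : ℤ) = _
      rw [zpow_natCast, QuaternionGroup.a_one_pow, ZMod.natCast_zmod_val]⟩
  · exact absurd (QuaternionGroup.orderOf_xa i) h

theorem isPGroup_of_quaternion_sylow [Group.IsSolvable G] (hO : Cfsg.oddCore G = ⊥)
    (S : Sylow 2 G) {n : ℕ} (hn : 3 ≤ n) (e : (S : Subgroup G) ≃* QuaternionGroup (2 ^ n)) :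
    IsPGroup 2 G := by
  classical
  have : Fact (Nat.Prime 2) := ⟨Nat.prime_two⟩
  have : NeZero (2 ^ n) := ⟨by positivity⟩
  set T := Cfsg.pCore 2 G with hT
  haveI hTn : T.Normal := CfsgLib.Fus.normal_pCore 2
  have hTS : T ≤ S := CfsgLib.Solv.pCore_le_sylow S
  set R : Subgroup G := ((Subgroup.zpowers (QuaternionGroup.a 1 : QuaternionGroup (2 ^ n))).comap
    e.toMonoidHom).map (S : Subgroup G).subtype with hR
  have hRc : IsCyclic R := by
    haveI h1 : IsCyclic ((Subgroup.zpowers (QuaternionGroup.a 1 : QuaternionGroup (2 ^ n))).comap e.toMonoidHom) :=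
      isCyclic_of_injective (e.toMonoidHom.subgroupComap _) fun a b h => by
        exact Subtype.ext (e.injective (congrArg Subtype.val h))
    exact isCyclic_of_surjective _ (((Subgroup.zpowers (QuaternionGroup.a 1 : QuaternionGroup (2 ^ n))).comap
      e.toMonoidHom).equivMapOfInjective (S : Subgroup G).subtype Subtype.val_injective).surjective
  have hmemR : ∀ x : G, ∀ hx : x ∈ (S : Subgroup G), orderOf x ≠ 4 → x ∈ R := fun x hx ho =>
    ⟨⟨x, hx⟩, quaternion_mem_rotations (by
      show orderOf (e.toMonoidHom ⟨x, hx⟩) ≠ 4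
      rw [show orderOf (e.toMonoidHom ⟨x, hx⟩) = orderOf (⟨x, hx⟩ : (S : Subgroup G)) from e.orderOf_eq _,
        Subgroup.orderOf_mk]
      exact ho), rfl⟩
  have hRS : R ≤ S := Subgroup.map_subtype_le _
  -- index two in `T`
  have hidx : ((T ⊓ R).subgroupOf T).index ≤ 2 := by
    have h1 : R.relIndex (S : Subgroup G) ≤ 2 := by
      have hcard : Nat.card R = 2 * 2 ^ n := by
        rw [hR, ← Nat.card_congr (Subgroup.equivMapOfInjective _ _ Subtype.val_injective).toEquiv]
        refine Eq.trans ?_ ((Nat.card_zpowers (QuaternionGroup.a 1 : QuaternionGroup (2 ^ n))).trans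
          QuaternionGroup.orderOf_a_one)
        exact Nat.card_congr
          (α := (Subgroup.zpowers (QuaternionGroup.a 1 : QuaternionGroup (2 ^ n))).comap e.toMonoidHom)
          (β := Subgroup.zpowers (QuaternionGroup.a 1 : QuaternionGroup (2 ^ n))) ⟨fun a => ⟨e a.1, a.2⟩, fun b => ⟨e.symm b.1, by
            rw [Subgroup.mem_comap]
            simp⟩,
          fun a => Subtype.ext (e.symm_apply_apply a.1), fun b => Subtype.ext (e.apply_symm_apply b.1)⟩
      have hScard : Nat.card (S : Subgroup G) = 4 * 2 ^ n := by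
        rw [Nat.card_congr e.toEquiv, Nat.card_eq_fintype_card, QuaternionGroup.card]
      have h2 := (R.subgroupOf (S : Subgroup G)).card_mul_index
      rw [Nat.card_congr (Subgroup.subgroupOfEquivOfLe hRS).toEquiv, hcard, hScard] at h2
      refine le_of_eq (Nat.eq_of_mul_eq_mul_left (show 0 < 2 * 2 ^ n by positivity) ?_)
      rw [Subgroup.relIndex, h2]; ring
    calc ((T ⊓ R).subgroupOf T).index = R.relIndex T := by rw [← Subgroup.relIndex, Subgroup.inf_relIndex_left]
      _ ≤ R.relIndex (S : Subgroup G) := Subgroup.relIndex_le_of_le_right hTS Subgroup.index_ne_zero_of_finite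
      _ ≤ 2 := h1
  by_cases hTR : T ≤ R
  · haveI : IsCyclic T := isCyclic_of_injective _ (Subgroup.inclusion_injective hTR)
    exact isPGroup_of_cyclic_core hO (C := T) le_rfl (by rw [Subgroup.subgroupOf_self, Subgroup.index_top]; omega)
  -- otherwise the rotations in `T` contain an element of order at least eight
  obtain ⟨x, hxT, hxR⟩ := Set.not_subset.1 hTR
  have hbig : ∃ y ∈ T, y ∈ R ∧ 8 ≤ orderOf y := by
    obtain ⟨i, hi⟩ : ∃ i, e ⟨x, hTS hxT⟩ = QuaternionGroup.xa i := by
      rcases h : e ⟨x, hTS hxT⟩ with i | i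
      · exact absurd ⟨⟨x, hTS hxT⟩, (show e ⟨x, hTS hxT⟩ ∈ Subgroup.zpowers (QuaternionGroup.a 1) by
          rw [h]; exact ⟨(i.val : ℤ), by
            show QuaternionGroup.a 1 ^ (i.val : ℤ) = _
            rw [zpow_natCast, QuaternionGroup.a_one_pow, ZMod.natCast_zmod_val]⟩), rfl⟩ hxR
      · exact ⟨i, rfl⟩
    set r := e.symm (QuaternionGroup.a 1)
    set y := x⁻¹ * ((r : G) * x * (r : G)⁻¹) with hy
    have hyT : y ∈ T := mul_mem (inv_mem hxT) (hTn.conj_mem x hxT _)
    have hord : orderOf y = 2 ^ n := by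
      have hyS : y = ((⟨x, hTS hxT⟩⁻¹ * (r * ⟨x, hTS hxT⟩ * r⁻¹) : (S : Subgroup G)) : G) := rfl
      rw [hyS, Subgroup.orderOf_coe, ← e.orderOf_eq, map_mul, map_mul, map_mul, map_inv, map_inv, hi,
        e.apply_symm_apply]
      have hcalc : (QuaternionGroup.xa i : QuaternionGroup (2 ^ n))⁻¹ *
          (QuaternionGroup.a 1 * QuaternionGroup.xa i * (QuaternionGroup.a 1)⁻¹) =
          (QuaternionGroup.a 1 ^ 2)⁻¹ := by
        rw [inv_mul_eq_iff_eq_mul, mul_inv_eq_iff_eq_mul, QuaternionGroup.a_mul_xa, QuaternionGroup.a_one_pow]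
        show _ = QuaternionGroup.xa i * QuaternionGroup.a (-(((2 : ℕ) : ZMod (2 * 2 ^ n)))) * QuaternionGroup.a 1
        rw [QuaternionGroup.xa_mul_a, QuaternionGroup.xa_mul_a]
        congr 1
        push_cast
        ring
      rw [hcalc, orderOf_inv, orderOf_pow_of_dvd two_ne_zero ⟨2 ^ n, by rw [QuaternionGroup.orderOf_a_one]⟩,
        QuaternionGroup.orderOf_a_one, Nat.mul_div_cancel_left _ two_pos]
    have h8 : 8 ≤ 2 ^ n := le_trans (by norm_num) (Nat.pow_le_pow_right two_pos hn)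
    exact ⟨y, hyT, hmemR y (hTS hyT) (by omega), by omega⟩
  obtain ⟨y, hyT, hyR, hy8⟩ := hbig
  set C₀ := Subgroup.closure {t : G | t ∈ T ∧ 8 ≤ orderOf t} with hC₀
  have hC₀R : C₀ ≤ R := by
    rw [hC₀, Subgroup.closure_le]
    exact fun t ht => hmemR t (hTS ht.1) (by have := ht.2; omega)
  haveI : C₀.Normal := by
    refine Subgroup.Normal.mk fun t ht g => ?_
    have hle : C₀ ≤ C₀.comap (MulAut.conj g).toMonoidHom := by
      rw [hC₀, Subgroup.closure_le]
      intro u hu
      refine Subgroup.subset_closure ⟨hTn.conj_mem u hu.1 g, ?_⟩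
      show 8 ≤ orderOf (g * u * g⁻¹)
      exact (MulEquiv.orderOf_eq (MulAut.conj g) u).symm ▸ hu.2
    exact hle ht
  set C := T ⊓ Subgroup.centralizer (C₀ : Set G) with hC
  have hCR : C = T ⊓ R := by
    refine le_antisymm ?_ ?_
    · intro c hc
      refine ⟨hc.1, ?_⟩
      -- an element outside the rotations inverts them
      by_contra hcR
      have hcS := hTS hc.1
      obtain ⟨i, hi⟩ : ∃ i, e ⟨c, hcS⟩ = QuaternionGroup.xa i := by
        rcases h : e ⟨c, hcS⟩ with i | i
        · exact absurd ⟨⟨c, hcS⟩, (show e ⟨c, hcS⟩ ∈ Subgroup.zpowers (QuaternionGroup.a 1) by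
            rw [h]; exact ⟨(i.val : ℤ), by
              show QuaternionGroup.a 1 ^ (i.val : ℤ) = _
              rw [zpow_natCast, QuaternionGroup.a_one_pow, ZMod.natCast_zmod_val]⟩), rfl⟩ hcR
        · exact ⟨i, rfl⟩
      obtain ⟨⟨w, hwS⟩, hw, hwy⟩ := Subgroup.mem_map.1 hyR
      have hwy' : w = y := hwy
      obtain ⟨j, hj⟩ : ∃ j, e ⟨w, hwS⟩ = QuaternionGroup.a j := by
        obtain ⟨k, hk⟩ := (Submonoid.mem_powers_iff _ _).1 (mem_powers_iff_mem_zpowers.2 hw)
        exact ⟨k, hk.symm.trans (QuaternionGroup.a_one_pow k)⟩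
      have hcomm : (⟨c, hcS⟩ : (S : Subgroup G)) * ⟨w, hwS⟩ = ⟨w, hwS⟩ * ⟨c, hcS⟩ := Subtype.ext (by
        show c * w = w * c
        rw [hwy']
        exact (Subgroup.mem_centralizer_iff.1 hc.2 y (Subgroup.subset_closure ⟨hyT, hy8⟩)).symm)
      have h2 := congrArg e hcomm
      rw [map_mul, map_mul, hi, hj, QuaternionGroup.xa_mul_a, QuaternionGroup.a_mul_xa, QuaternionGroup.xa.injEq] at h2
      have h3 : (QuaternionGroup.a j : QuaternionGroup (2 ^ n)) ^ 2 = 1 := by
        rw [pow_two, QuaternionGroup.a_mul_a, show j + j = 0 by linear_combination h2]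
        rfl
      have h4 : orderOf y ∣ 2 := by
        rw [← hwy', ← Subgroup.orderOf_mk w hwS, ← e.orderOf_eq, hj]
        exact orderOf_dvd_of_pow_eq_one h3
      have := Nat.le_of_dvd two_pos h4
      omega
    · intro c hc
      refine ⟨hc.1, Subgroup.mem_centralizer_iff.2 fun u hu => ?_⟩
      haveI := hRc
      exact congrArg Subtype.val (IsCyclic.commGroup.mul_comm (⟨u, hC₀R hu⟩ : R) ⟨c, hc.2⟩)
  haveI : IsCyclic C := by
    haveI := hRc
    exact isCyclic_of_injective _ (Subgroup.inclusion_injective (hCR ▸ inf_le_right : C ≤ R))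
  haveI : C.Normal := Subgroup.normal_inf_normal _ _
  exact isPGroup_of_cyclic_core hO inf_le_left (hCR.symm ▸ hidx)

theorem hnpc_of_quaternion_sylow [Group.IsSolvable G] (S : Sylow 2 G) {n : ℕ} (hn : 3 ≤ n)
    (e : (S : Subgroup G) ≃* QuaternionGroup (2 ^ n)) : Cfsg.HasNormalPComplement 2 G := by
  classical
  have : Fact (Nat.Prime 2) := ⟨Nat.prime_two⟩
  set O := Cfsg.oddCore G with hOdef
  haveI hOn : O.Normal := CfsgLib.Fus.normal_pPrimeCore 2
  set q := QuotientGroup.mk' O with hq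
  have hinj : Function.Injective (q.subgroupMap (S : Subgroup G)) := by
    rw [injective_iff_map_eq_one]
    intro s hs
    have h1 : (s : G) ∈ O := (QuotientGroup.eq_one_iff _).1 (congrArg Subtype.val hs)
    obtain ⟨j, hj⟩ := IsPGroup.iff_orderOf.1 S.isPGroup' s
    have h2 : orderOf s ∣ Nat.card O := by rw [← Subgroup.orderOf_coe]; exact Subgroup.orderOf_dvd_natCard O h1
    exact orderOf_eq_one_iff.1 (Nat.eq_one_of_dvd_coprimes
      (Nat.Coprime.pow_right j (CfsgLib.Fus.coprime_card_pPrimeCore 2)) h2 (dvd_of_eq hj))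
  let e' : ((S.mapSurjective (QuotientGroup.mk'_surjective O) : Sylow 2 (G ⧸ O)) : Subgroup (G ⧸ O)) ≃*
      QuaternionGroup (2 ^ n) :=
    (MulEquiv.ofBijective _ ⟨hinj, q.subgroupMap_surjective _⟩).symm.trans e
  have hQ := isPGroup_of_quaternion_sylow (G := G ⧸ O) CfsgLib.Solv.pPrimeCore_quotient_self
    (S.mapSurjective (QuotientGroup.mk'_surjective O)) hn e'
  obtain ⟨m, hm⟩ := IsPGroup.iff_card.1 hQ
  exact CfsgLib.Perm.hasNormalPComplement_of O
    (fun h => by
      have := CfsgLib.Fus.coprime_card_pPrimeCore (G := G) 2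
      rw [Nat.coprime_two_right] at this
      exact Nat.not_even_iff_odd.2 this (even_iff_two_dvd.2 h))
    ⟨m, by rw [← hm, Subgroup.index_eq_card]⟩

end CfsgLib.Base.Small
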