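import Cfsg.Agent.Solv.FittingBasic
import Cfsg.Agent.Fus.CoreBasic

/-! Groups whose Sylow 2-subgroups meet in cyclic groups. -/

set_option autoImplicit false

namespace CfsgLib.Base.Small

variable {G : Type*} [Group G] [Finite G]

/-- Two different Sylow 2-subgroups meet in a cyclic group. -/
def CyclicMeet (G : Type*) [Group G] : Prop :=
  ∀ S T : Sylow 2 G, S ≠ T → IsCyclic ↥((S : Subgroup G) ⊓ (T : Subgroup G))

theorem CyclicMeet.quotient (hC : CyclicMeet G) (H : Subgroup G) [H.Normal] : CyclicMeet (G ⧸ H) := by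
  have : Fact (Nat.Prime 2) := ⟨Nat.prime_two⟩
  intro S T hST
  set q := QuotientGroup.mk' H with hq
  have hsurj : Function.Surjective q := QuotientGroup.mk'_surjective H
  obtain ⟨S₀, hS⟩ := Sylow.mapSurjective_surjective hsurj 2 S
  obtain ⟨T₀, hT⟩ := Sylow.mapSurjective_surjective hsurj 2 T
  set X : Subgroup G := ((S : Subgroup (G ⧸ H)) ⊓ T).comap q with hX
  have hST0 : (S : Subgroup (G ⧸ H)) = (S₀ : Subgroup G).map q := by rw [← hS]; rfl
  have hTT0 : (T : Subgroup (G ⧸ H)) = (T₀ : Subgroup G).map q := by rw [← hT]; rfl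
  -- a Sylow 2-subgroup of `X`, moved inside `S₀` and inside `T₀`
  obtain ⟨R⟩ := (inferInstance : Nonempty (Sylow 2 X))
  set R' : Subgroup G := (R : Subgroup X).map X.subtype with hR'
  have hRX : R' ≤ X := Subgroup.map_subtype_le _
  have hR2 : IsPGroup 2 R' := R.2.map _
  have hmove : ∀ (U : Sylow 2 (G ⧸ H)) (U₀ : Sylow 2 G), (U : Subgroup (G ⧸ H)) = (U₀ : Subgroup G).map q →
      X ≤ (U : Subgroup (G ⧸ H)).comap q →
      ∃ U₁ : Sylow 2 G, R' ≤ U₁ ∧ (U₁ : Subgroup G).map q = U := by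
    intro U U₀ hU hle
    set Y : Subgroup G := (U : Subgroup (G ⧸ H)).comap q with hY
    have hUY : (U₀ : Subgroup G) ≤ Y := fun u hu => by
      rw [hY, Subgroup.mem_comap, hU]; exact Subgroup.mem_map_of_mem _ hu
    obtain ⟨W, hW⟩ := ((hR2.comap_of_injective Y.subtype Subtype.val_injective)).exists_le_sylow
    obtain ⟨c, hc⟩ := MulAction.exists_smul_eq Y (U₀.subtype hUY) W
    refine ⟨(c : G) • U₀, ?_, ?_⟩
    · intro r hr
      have h1 : (⟨r, hle (hRX hr)⟩ : Y) ∈ (W : Subgroup Y) := hW (by exact hr)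
      rw [← hc] at h1
      rw [Sylow.smul_subtype] at h1
      · exact h1
    · refine Subgroup.eq_of_le_of_card_ge ?_ ?_
      · rw [Subgroup.map_le_iff_le_comap]
        intro u hu
        rw [Sylow.coe_subgroup_smul, Subgroup.mem_pointwise_smul_iff_inv_smul_mem] at hu
        have h2 := hUY hu
        rw [MulAut.smul_def, MulAut.conj_inv_apply] at h2
        show u ∈ Y
        simpa [mul_assoc] using mul_mem (mul_mem c.2 h2) (inv_mem c.2)
      · have e1 : Nat.card ((((c : G) • U₀ : Sylow 2 G) : Subgroup G).map q) = Nat.card ((U₀ : Subgroup G).map q) := by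
          have e2 : (((c : G) • U₀ : Sylow 2 G) : Subgroup G) = (U₀ : Subgroup G).map (MulAut.conj (c : G)).toMonoidHom := rfl
          rw [e2, Subgroup.map_map,
            show q.comp (MulAut.conj (c : G)).toMonoidHom = (MulAut.conj (q (c : G))).toMonoidHom.comp q from
              MonoidHom.ext fun x => by simp,
            ← Subgroup.map_map]
          exact (Nat.card_congr (Subgroup.equivMapOfInjective _ _ (MulAut.conj (q (c : G))).injective).toEquiv).symm
        rw [e1, ← hU]
  obtain ⟨S₁, hS1, hS1'⟩ := hmove S S₀ hST0 (Subgroup.comap_mono inf_le_left)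
  obtain ⟨T₁, hT1, hT1'⟩ := hmove T T₀ hTT0 (Subgroup.comap_mono inf_le_right)
  have hne : S₁ ≠ T₁ := fun h => hST (Sylow.ext (by rw [← hS1', ← hT1', h]))
  have hcyc := hC S₁ T₁ hne
  have hRc : IsCyclic R' := isCyclic_of_injective _ (Subgroup.inclusion_injective (le_inf hS1 hT1))
  -- the intersection is the image of `R'`
  have himg : R'.map q = (S : Subgroup (G ⧸ H)) ⊓ T := by
    refine Subgroup.eq_of_le_of_card_ge ?_ ?_
    · rw [Subgroup.map_le_iff_le_comap]; exact hRX
    · have hp : IsPGroup 2 ↥((S : Subgroup (G ⧸ H)) ⊓ T) := S.isPGroup'.to_le inf_le_left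
      obtain ⟨a, ha⟩ := IsPGroup.iff_card.1 hp
      obtain ⟨b, hb⟩ := IsPGroup.iff_card.1 (hR2.map q)
      let φ : X →* ↥((S : Subgroup (G ⧸ H)) ⊓ T) := q.subgroupComap _
      have hφ : Function.Surjective φ := fun y => by
        obtain ⟨x, hx⟩ := hsurj (y : G ⧸ H)
        exact ⟨⟨x, Subgroup.mem_comap.2 (by rw [hx]; exact y.2)⟩, Subtype.ext hx⟩
      have h1 := ((R : Subgroup X).index_map_dvd hφ)
      have hcard : Nat.card ((R : Subgroup X).map φ) = Nat.card (R'.map q) := by
        refine Nat.card_congr ?_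
        refine ((Subgroup.equivMapOfInjective _ _ ((S : Subgroup (G ⧸ H)) ⊓ (T : Subgroup (G ⧸ H))).subtype_injective).toEquiv).trans ?_
        refine Equiv.setCongr ?_
        rw [hR', Subgroup.map_map, Subgroup.map_map]
        rfl
      have h2 := ((R : Subgroup X).map φ).card_mul_index
      rw [hcard, hb, ha] at h2
      have h3 : ((R : Subgroup X).map φ).index = 1 := by
        have h4 : ((R : Subgroup X).map φ).index ∣ 2 ^ a := ⟨2 ^ b, by rw [← h2, mul_comm]⟩
        refine Nat.eq_one_of_dvd_coprimes (a := 2 ^ a) (b := (R : Subgroup X).index) ?_ h4 h1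
        exact Nat.Coprime.pow_left _ ((Nat.prime_two.coprime_iff_not_dvd).2 R.not_dvd_index)
      rw [h3, mul_one] at h2
      rw [ha, hb, h2]
  rw [← himg]
  exact isCyclic_of_surjective _ (q.subgroupMap_surjective R')

open Classical in
theorem CyclicMeet.sylow_normal [Group.IsSolvable G] (hC : CyclicMeet G)
    (hO : Cfsg.oddCore G = ⊥) (P : Sylow 2 G) : (P : Subgroup G).Normal := by
  have : Fact (Nat.Prime 2) := ⟨Nat.prime_two⟩
  set T := Cfsg.pCore 2 G with hT
  by_cases h1 : ∃ Q : Sylow 2 G, Q ≠ P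
  swap
  · push Not at h1
    refine ⟨fun x hx g => ?_⟩
    have h2 : g • P = P := h1 _
    rw [← h2, Sylow.coe_subgroup_smul]
    exact ⟨x, hx, rfl⟩
  obtain ⟨Q, hQ⟩ := h1
  have hle : T ≤ (P : Subgroup G) ⊓ Q := by
    rw [hT, CfsgLib.Solv.pCore_eq_iInf_sylow]
    exact le_inf (iInf_le _ P) (iInf_le _ Q)
  have := hC P Q hQ.symm
  have hTc : IsCyclic T := isCyclic_of_injective _ (Subgroup.inclusion_injective hle)
  have hTn : T.Normal := CfsgLib.Fus.normal_pCore 2
  let φ : G →* MulAut T := MulAut.conjNormal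
  have hker : φ.ker ≤ T := fun g hg =>
    CfsgLib.Solv.centralizer_pCore_le hO (Subgroup.mem_centralizer_iff.2 fun t ht => by
      have e := congrArg (fun a : MulAut T => ((a ⟨t, ht⟩ : T) : G)) (MonoidHom.mem_ker.1 hg)
      simp only [φ, MulAut.conjNormal_apply, MulAut.one_apply] at e
      exact (mul_inv_eq_iff_eq_mul.1 e).symm)
  have hT2 : IsPGroup 2 T := P.isPGroup'.to_le (hle.trans inf_le_left)
  have hker2 : IsPGroup 2 φ.ker := hT2.to_le hker
  obtain ⟨a, ha⟩ := IsPGroup.iff_card.1 hT2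
  have hA : IsPGroup 2 (MulAut T) := by
    rcases a with _ | a
    · exact IsPGroup.of_card (n := 0) (by rw [IsCyclic.card_mulAut, ha]; decide)
    · exact IsPGroup.of_card (n := a) (by
        rw [IsCyclic.card_mulAut, ha, Nat.totient_prime_pow Nat.prime_two (Nat.succ_pos a)]
        simp)
  obtain ⟨c, hc⟩ := IsPGroup.iff_card.1 hker2
  obtain ⟨d, hd⟩ := IsPGroup.iff_card.1 (hA.to_subgroup φ.range)
  have hG : IsPGroup 2 G := IsPGroup.of_card (n := c + d) (by
    rw [← φ.ker.card_mul_index, Subgroup.index_ker, hc, hd, pow_add])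
  obtain ⟨e, he⟩ := IsPGroup.iff_card.1 hG
  have : (P : Subgroup G) = ⊤ := Subgroup.eq_top_of_card_eq _ (by
    rw [P.card_eq_multiplicity, he, Nat.Prime.factorization_pow Nat.prime_two, Finsupp.single_eq_same])
  rw [this]
  infer_instance

end CfsgLib.Base.Small
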