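import Cfsg.Agent.Inv.BaerSuzuki
import Cfsg.Agent.Inv.Dihedral
import Cfsg.Agent.Solv.Hall

/-! A four-group meeting the centraliser of each conjugate of its involutions meets the 2-core. -/

set_option autoImplicit false

namespace CfsgLib.Base.Small

open CfsgLib.Inv

variable {G : Type*} [Group G]

theorem exists_conj_odd_product [Finite G] {t : G} (ht : orderOf t = 2)
    (hnot : t ∉ Cfsg.pCore 2 G) :
    ∃ g : G, Odd (orderOf (t * (g * t * g⁻¹))) ∧ t * (g * t * g⁻¹) ≠ 1 := by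
  classical
  have : Fact (Nat.Prime 2) := ⟨Nat.prime_two⟩
  by_contra hcon
  push Not at hcon
  refine hnot ?_
  set Ω : Set (Subgroup G) := {Y | ∃ a : G, Y = Subgroup.zpowers (a * t * a⁻¹)} with hΩ
  have hconj : ∀ Y ∈ Ω, ∀ g : G, Y.map (MulAut.conj g).toMonoidHom ∈ Ω := by
    rintro Y ⟨a, rfl⟩ g
    refine ⟨g * a, ?_⟩
    rw [MonoidHom.map_zpowers]
    congr 1
    simp [mul_assoc]
  have hodd1 : ∀ a b : G, Odd (orderOf ((a * t * a⁻¹) * (b * t * b⁻¹))) →
      (a * t * a⁻¹) * (b * t * b⁻¹) = 1 := by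
    intro a b h
    have he : (a * t * a⁻¹) * (b * t * b⁻¹) =
        a * (t * ((a⁻¹ * b) * t * (a⁻¹ * b)⁻¹)) * a⁻¹ := by group
    rw [he] at h ⊢
    have ho : orderOf (a * (t * ((a⁻¹ * b) * t * (a⁻¹ * b)⁻¹)) * a⁻¹) =
        orderOf (t * ((a⁻¹ * b) * t * (a⁻¹ * b)⁻¹)) := MulEquiv.orderOf_eq (MulAut.conj a) _
    rw [ho] at h
    rw [hcon _ h]; group
  have hpair : ∀ Y ∈ Ω, ∀ Z ∈ Ω, IsPGroup 2 ↥(Y ⊔ Z) := by
    rintro Y ⟨a, rfl⟩ Z ⟨b, rfl⟩
    have hu : orderOf (a * t * a⁻¹) = 2 := invol_conj ht a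
    have hv : orderOf (b * t * b⁻¹) = 2 := invol_conj ht b
    set u := a * t * a⁻¹ with hu'
    set v := b * t * b⁻¹ with hv'
    obtain ⟨s, m, hm, hd⟩ := Nat.exists_eq_two_pow_mul_odd (orderOf_pos (u * v)).ne'
    have hx : orderOf ((u * v) ^ (2 ^ s)) = m := by
      rw [orderOf_pow_of_dvd (pow_ne_zero _ two_ne_zero) ⟨m, hd⟩, hd,
        Nat.mul_div_cancel_left _ (pow_pos two_pos _)]
    have hone : m = 1 := by
      rcases s with _ | s
      · rw [pow_zero, pow_one] at hx
        have h2 : Odd (orderOf (u * v)) := hx.symm ▸ hm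
        have := hodd1 a b h2
        rw [← hu', ← hv'] at this
        rw [this, orderOf_one] at hx
        exact hx.symm
      · have hcb := conj_by_zpow hu hv ((2 ^ s : ℕ) : ℤ)
        set c := (u * v) ^ (-((2 ^ s : ℕ) : ℤ))
        have hc2 : (u * v) ^ (2 ^ (s + 1)) = u * ((c * a) * t * (c * a)⁻¹) := by
          rw [show (c * a) * t * (c * a)⁻¹ = c * u * c⁻¹ by rw [hu']; group, hcb,
            ← mul_assoc u u, invol_mul_self hu, one_mul, ← zpow_natCast]
          congr 1
          push_cast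
          rw [pow_succ]; ring
        rw [hc2] at hx
        have := hodd1 a (c * a) (by rw [← hu']; exact hx.symm ▸ hm)
        rw [← hu'] at this
        rw [this, orderOf_one] at hx
        exact hx.symm
    subst hone
    intro d
    have hd' : (d : G) ∈ Subgroup.closure ({u, v} : Set G) :=
      (sup_le (Subgroup.zpowers_le.2 (Subgroup.subset_closure (by simp)))
        (Subgroup.zpowers_le.2 (Subgroup.subset_closure (by simp)))) d.2
    rcases (mem_pair_iff hu hv).1 hd' with ⟨k, hk⟩ | ⟨k, hk⟩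
    · refine ⟨s, Subtype.ext ?_⟩
      rw [Subgroup.coe_pow, hk, ← zpow_natCast ((u * v) ^ k), zpow_comm, zpow_natCast,
        show (u * v) ^ (2 ^ s) = 1 from orderOf_eq_one_iff.1 hx, one_zpow]
      rfl
    · refine ⟨1, Subtype.ext ?_⟩
      rw [Subgroup.coe_pow, hk, pow_one, sq, refl_mul_refl hu hv, sub_self, zpow_zero]
      rfl
  have hp := CfsgLib.Inv.baer_suzuki Ω hconj hpair
  have : (sSup Ω).Normal := by
    refine ⟨fun y hy g => ?_⟩
    have hle : sSup Ω ≤ (sSup Ω).comap (MulAut.conj g).toMonoidHom :=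
      sSup_le fun Y hY w hw => le_sSup (hconj Y hY g) ⟨w, hw, rfl⟩
    exact hle hy
  have hmem : Subgroup.zpowers t ∈ Ω := ⟨1, by simp⟩
  exact CfsgLib.Solv.le_pCore hp (le_sSup hmem (Subgroup.mem_zpowers t))

theorem eq_one_of_commute_odd {a x : G} (ha : orderOf a = 2) (hx : orderOf x = 2)
    (hodd : Odd (orderOf (a * x))) (hc : Commute a x) : a * x = 1 := by
  have h2 : orderOf (a * x) ∣ 2 := orderOf_dvd_of_pow_eq_one (by
    rw [pow_two, hc.symm.mul_mul_mul_comm, invol_mul_self ha, invol_mul_self hx, one_mul])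
  rcases (Nat.dvd_prime Nat.prime_two).1 h2 with h | h
  · exact orderOf_eq_one_iff.1 h
  · rw [h] at hodd; exact absurd hodd (by decide)

theorem klein_aux {A : Subgroup G} {a b d h : G} (ha : orderOf a = 2) (hb : orderOf b = 2)
    (hab : Commute a b) (hne : a ≠ b) (hA : ∀ v ∈ A, v ≠ 1 → v = a ∨ v = b ∨ v = a * b)
    (hP : ∀ v ∈ A, v ≠ 1 → ∀ g : G, ∃ w ∈ A, w ≠ 1 ∧ Commute w (g * v * g⁻¹))
    (haA : a ∈ A) (hbA : b ∈ A) (hd : Commute d b)
    (hax : Odd (orderOf (a * (d * a * d⁻¹)))) (hax1 : a * (d * a * d⁻¹) ≠ 1)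
    (hby : Odd (orderOf (b * (h * b * h⁻¹)))) (hby1 : b * (h * b * h⁻¹) ≠ 1)
    (hay : Commute a (h * b * h⁻¹)) : False := by
  set x := d * a * d⁻¹ with hxdef
  set y := h * b * h⁻¹ with hydef
  have hx : orderOf x = 2 := invol_conj ha d
  have hy : orderOf y = 2 := invol_conj hb h
  have hbx : Commute b x := ((hd.symm.mul_right hab.symm).mul_right hd.symm.inv_right)
  have hnax : ¬ Commute a x := fun hc => hax1 (eq_one_of_commute_odd ha hx hax hc)
  have hnby : ¬ Commute b y := fun hc => hby1 (eq_one_of_commute_odd hb hy hby hc)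
  have hxy : Commute x y := by
    obtain ⟨w, hwA, hw1, hwc⟩ := hP b hbA (invol_ne_one hb) (d⁻¹ * h)
    have hconv : Commute (d * w * d⁻¹) y := by
      have e : (d⁻¹ * h) * b * (d⁻¹ * h)⁻¹ = d⁻¹ * y * d := by rw [hydef]; group
      rw [e] at hwc
      calc d * w * d⁻¹ * y = d * (w * (d⁻¹ * y * d)) * d⁻¹ := by group
        _ = d * ((d⁻¹ * y * d) * w) * d⁻¹ := by rw [hwc.eq]
        _ = y * (d * w * d⁻¹) := by group
    have hdb : d * b * d⁻¹ = b := by rw [hd.eq, mul_inv_cancel_right]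
    rcases hA w hwA hw1 with rfl | rfl | rfl
    · exact hconv
    · rw [hdb] at hconv; exact absurd hconv hnby
    · exfalso
      rw [show d * (a * b) * d⁻¹ = x * (d * b * d⁻¹) by rw [hxdef]; group, hdb] at hconv
      -- `(a x) b` has `b` among its powers
      have h1 : Commute (a * (x * b)) y := hay.mul_left hconv
      have hc : Commute (a * x) b := hab.mul_left hbx.symm
      have h2 := h1.pow_left (orderOf (a * x))
      rw [← mul_assoc, hc.mul_pow, pow_orderOf_eq_one, one_mul] at h2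
      obtain ⟨j, hj⟩ := hax
      rw [hj, pow_succ, pow_mul, pow_two, invol_mul_self hb, one_pow, one_mul] at h2
      exact hnby h2
  obtain ⟨e, he, heb⟩ := conj_of_odd hb hy hby
  have hex : Commute e x := by
    have hle : Subgroup.closure ({b, y} : Set G) ≤ Subgroup.centralizer ({x} : Set G) := by
      rw [Subgroup.closure_le]
      rintro z (rfl | rfl)
      · exact Subgroup.mem_centralizer_singleton_iff.2 hbx.eq
      · exact Subgroup.mem_centralizer_singleton_iff.2 hxy.symm.eq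
    exact Subgroup.mem_centralizer_singleton_iff.1 (hle he)
  have habA : a * b ∈ A := mul_mem haA hbA
  have hab1 : a * b ≠ 1 := fun hh => hne (by
    rw [eq_inv_of_mul_eq_one_left hh, invol_inv hb])
  obtain ⟨w, hwA, hw1, hwc⟩ := hP (a * b) habA hab1 (e * d)
  have e1 : (e * d) * (a * b) * (e * d)⁻¹ = x * y := by
    calc (e * d) * (a * b) * (e * d)⁻¹ = (e * x * e⁻¹) * (e * (d * b * d⁻¹) * e⁻¹) := by
          rw [hxdef]; group
      _ = x * y := by rw [hex.eq, mul_inv_cancel_right, hd.eq, mul_inv_cancel_right, heb]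
  rw [e1] at hwc
  rcases hA w hwA hw1 with rfl | rfl | rfl
  · refine hnax ?_
    have := hwc.mul_right hay
    rwa [mul_assoc, invol_mul_self hy, mul_one] at this
  · refine hnby ?_
    have := hbx.mul_right hwc
    rwa [← mul_assoc, invol_mul_self hx, one_mul] at this
  · have h1 : (a * b) * (x * y) = (a * x) * (b * y) := hbx.mul_mul_mul_comm a y
    have h2 : (x * y) * (a * b) = (x * a) * (y * b) := hay.symm.mul_mul_mul_comm x b
    have h3 : (a * x) * (b * y) = (a * x)⁻¹ * (b * y)⁻¹ := by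
      rw [mul_inv_rev a x, mul_inv_rev b y, invol_inv ha, invol_inv hb, invol_inv hx, invol_inv hy,
        ← h1, ← h2]
      exact hwc.eq
    have h4 : (a * x) * (a * x) = ((b * y) * (b * y))⁻¹ := by
      calc (a * x) * (a * x) = (a * x) * ((a * x) * (b * y)) * (b * y)⁻¹ := by group
        _ = (a * x) * ((a * x)⁻¹ * (b * y)⁻¹) * (b * y)⁻¹ := by rw [h3]
        _ = ((b * y) * (b * y))⁻¹ := by group
    have h5 : b * ((a * x) * (a * x)) * b⁻¹ = (a * x) * (a * x) := by
      have hc : Commute (a * x) b := hab.mul_left hbx.symm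
      rw [← (hc.mul_left hc).eq, mul_inv_cancel_right]
    have h6 : ((a * x) * (a * x))⁻¹ = (a * x) * (a * x) := by
      conv_rhs => rw [← h5, h4]
      rw [h4, ← conj_inv, ← conj_mul, pair_conj hb hy, mul_inv_rev]
    have h7 : orderOf (a * x) ∣ 2 ^ 2 := orderOf_dvd_of_pow_eq_one (by
      rw [show 2 ^ 2 = 2 * 2 by norm_num, pow_mul, pow_two, pow_two]
      exact inv_eq_iff_mul_eq_one.1 h6)
    exact hax1 (orderOf_eq_one_iff.1
      (Nat.eq_one_of_dvd_coprimes ((Nat.coprime_two_right.2 hax).pow_right 2) dvd_rfl h7))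

theorem klein_inf_pCore [Finite G] (A : Subgroup G) (hA : IsKleinFour ↥A)
    (h : ∀ a ∈ A, a ≠ 1 → ∀ g : G, A ⊓ Subgroup.centralizer ({g * a * g⁻¹} : Set G) ≠ ⊥) :
    A ⊓ Cfsg.pCore 2 G ≠ ⊥ := by
  classical
  intro hbot
  have hsq : ∀ a ∈ A, a ≠ 1 → orderOf a = 2 := fun a ha h1 => by
    refine orderOf_eq_prime (p := 2) ?_ h1
    have := hA.exponent_two ▸ Monoid.pow_exponent_eq_one (⟨a, ha⟩ : A)
    exact congrArg Subtype.val this
  have hnot : ∀ a ∈ A, a ≠ 1 → a ∉ Cfsg.pCore 2 G := fun a ha h1 hm =>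
    h1 (Subgroup.eq_bot_iff_forall _ |>.1 hbot a ⟨ha, hm⟩)
  have hP : ∀ v ∈ A, v ≠ 1 → ∀ g : G, ∃ w ∈ A, w ≠ 1 ∧ Commute w (g * v * g⁻¹) := by
    intro v hv hv1 g
    obtain ⟨w, hw, hw1⟩ := (A ⊓ Subgroup.centralizer ({g * v * g⁻¹} : Set G)).bot_or_exists_ne_one.resolve_left
      (h v hv hv1 g)
    exact ⟨w, hw.1, hw1, Subgroup.mem_centralizer_singleton_iff.1 hw.2⟩
  obtain ⟨a, haA, ha1⟩ := A.bot_or_exists_ne_one.resolve_left fun hh => by
    have := hA.card_four
    rw [hh, Subgroup.card_bot] at this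
    omega
  have hcomm : ∀ u ∈ A, ∀ v ∈ A, Commute u v := fun u hu v hv => by
    haveI := hA
    exact congrArg Subtype.val (mul_comm_of_exponent_two hA.exponent_two (⟨u, hu⟩ : A) ⟨v, hv⟩)
  obtain ⟨g, hg, hg1⟩ := exists_conj_odd_product (hsq a haA ha1) (hnot a haA ha1)
  have ha := hsq a haA ha1
  have hx : orderOf (g * a * g⁻¹) = 2 := invol_conj ha g
  obtain ⟨b, hbA, hb1, hbx⟩ := hP a haA ha1 g
  have hne : a ≠ b := fun e => hg1 (eq_one_of_commute_odd ha hx hg (e ▸ hbx))
  have hb := hsq b hbA hb1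
  have hab := hcomm a haA b hbA
  have hall : ∀ v ∈ A, v ≠ 1 → v = a ∨ v = b ∨ v = a * b := by
    intro v hv hv1
    haveI := hA
    by_cases h1 : v = a; · exact Or.inl h1
    by_cases h2 : v = b; · exact Or.inr (Or.inl h2)
    right; right
    have := IsKleinFour.eq_mul_of_ne_all (x := (⟨a, haA⟩ : A)) (y := ⟨b, hbA⟩) (z := ⟨v, hv⟩)
      (fun e => ha1 (congrArg Subtype.val e)) (fun e => hb1 (congrArg Subtype.val e))
      (fun e => hne (congrArg Subtype.val e)) (fun e => hv1 (congrArg Subtype.val e))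
      (fun e => h1 (congrArg Subtype.val e)) (fun e => h2 (congrArg Subtype.val e))
    exact congrArg Subtype.val this
  obtain ⟨d, hd, hda⟩ := conj_of_odd ha hx hg
  have hdb : Commute d b := by
    have hle : Subgroup.closure ({a, g * a * g⁻¹} : Set G) ≤ Subgroup.centralizer ({b} : Set G) := by
      rw [Subgroup.closure_le]
      rintro z (rfl | rfl)
      · exact Subgroup.mem_centralizer_singleton_iff.2 hab.eq
      · exact Subgroup.mem_centralizer_singleton_iff.2 hbx.symm.eq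
    exact Subgroup.mem_centralizer_singleton_iff.1 (hle hd)
  rw [← hda] at hg hg1
  obtain ⟨k, hk, hk1⟩ := exists_conj_odd_product hb (hnot b hbA hb1)
  have hy : orderOf (k * b * k⁻¹) = 2 := invol_conj hb k
  obtain ⟨w, hwA, hw1, hwy⟩ := hP b hbA hb1 k
  rcases hall w hwA hw1 with rfl | rfl | rfl
  · exact klein_aux ha hb hab hne hall hP haA hbA hdb hg hg1 hk hk1 hwy
  · exact hk1 (eq_one_of_commute_odd hb hy hk hwy)
  · have hc : orderOf (a * b) = 2 := hsq _ hwA hw1
    have hcb : Commute (a * b) b := hab.mul_left (Commute.refl b)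
    have hne' : a * b ≠ b := fun e => ha1 (mul_eq_right.1 e)
    have hall' : ∀ v ∈ A, v ≠ 1 → v = a * b ∨ v = b ∨ v = a * b * b := fun v hv hv1 => by
      rw [mul_assoc, invol_mul_self hb, mul_one]
      rcases hall v hv hv1 with e | e | e
      · exact Or.inr (Or.inr e)
      · exact Or.inr (Or.inl e)
      · exact Or.inl e
    have heq : (a * b) * (d * (a * b) * d⁻¹) = a * (d * a * d⁻¹) := by
      rw [show d * (a * b) * d⁻¹ = (d * a * d⁻¹) * (d * b * d⁻¹) by group, hdb.eq,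
        mul_inv_cancel_right]
      have hcx : Commute b (d * a * d⁻¹) := (hdb.symm.mul_right hab.symm).mul_right hdb.symm.inv_right
      rw [hcx.mul_mul_mul_comm, invol_mul_self hb, mul_one]
    exact klein_aux hc hb hcb hne' hall' hP hwA hbA hdb (heq ▸ hg) (heq ▸ hg1) hk hk1 hwy

end CfsgLib.Base.Small
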