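import Mathlib

/-! Independent families can be moved to each other by linear automorphisms. -/

set_option autoImplicit false

namespace CfsgLib.Base.Small

theorem exists_equiv_of_linearIndependent {K V ι : Type*} [Field K] [AddCommGroup V] [Module K V]
    [FiniteDimensional K V] [Finite ι] {v w : ι → V} (hv : LinearIndependent K v)
    (hw : LinearIndependent K w) : ∃ e : V ≃ₗ[K] V, ∀ i, e (v i) = w i := by
  obtain ⟨P, hP⟩ := Submodule.exists_isCompl (Submodule.span K (Set.range v))
  obtain ⟨Q, hQ⟩ := Submodule.exists_isCompl (Submodule.span K (Set.range w))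
  letI := Fintype.ofFinite ι
  let e₀ := (Module.Basis.span hv).equiv (Module.Basis.span hw) (Equiv.refl ι)
  have hr : Module.finrank K P = Module.finrank K Q := by
    have h1 := Submodule.finrank_add_eq_of_isCompl hP
    have h2 := Submodule.finrank_add_eq_of_isCompl hQ
    have h3 := LinearEquiv.finrank_eq e₀
    omega
  let e₁ := LinearEquiv.ofFinrankEq P Q hr
  refine ⟨(Submodule.prodEquivOfIsCompl _ _ hP).symm ≪≫ₗ (e₀.prodCongr e₁) ≪≫ₗ
    (Submodule.prodEquivOfIsCompl _ _ hQ), fun i => ?_⟩
  have h : v i = ((Module.Basis.span hv i : Submodule.span K (Set.range v)) : V) := by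
    rw [Module.Basis.span_apply]
  rw [LinearEquiv.trans_apply, LinearEquiv.trans_apply]
  have h' : (Submodule.prodEquivOfIsCompl _ _ hP).symm (v i) = (Module.Basis.span hv i, 0) := by
    rw [h]; exact Submodule.prodEquivOfIsCompl_symm_apply_left _ _ hP _
  rw [h', LinearEquiv.prodCongr_apply, map_zero, Module.Basis.equiv_apply,
    Submodule.coe_prodEquivOfIsCompl', Module.Basis.span_apply]
  simp

end CfsgLib.Base.Small
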