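import Mathlib

/-! A primitive group with a small transitive Jordan set is 3-transitive. -/

set_option autoImplicit false

namespace CfsgLib.Base.Small

open scoped Pointwise

variable {G Ω : Type*} [Group G] [MulAction G Ω]

/-- The pointwise stabiliser of the complement is transitive on the set. -/
def IsJordanSet (G : Type*) {Ω : Type*} [Group G] [MulAction G Ω] (s : Set Ω) : Prop :=
  ∀ x ∈ s, ∀ y ∈ s, ∃ g : G, (∀ z ∉ s, g • z = z) ∧ g • x = y

theorem IsJordanSet.smul {s : Set Ω} (h : IsJordanSet G s) (a : G) : IsJordanSet G (a • s) := by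
  rintro _ ⟨x, hx, rfl⟩ _ ⟨y, hy, rfl⟩
  obtain ⟨g, hg, hgx⟩ := h x hx y hy
  refine ⟨a * g * a⁻¹, fun z hz => ?_, ?_⟩
  · rw [mul_smul, mul_smul, hg _ (fun h' => hz ⟨_, h', smul_inv_smul a z⟩), smul_inv_smul]
  · simp only [mul_smul, inv_smul_smul, hgx]

theorem IsJordanSet.union {s t : Set Ω} (hs : IsJordanSet G s) (ht : IsJordanSet G t)
    (hne : (s ∩ t).Nonempty) : IsJordanSet G (s ∪ t) := by
  obtain ⟨w, hws, hwt⟩ := hne
  intro x hx y hy
  have hto : ∀ u ∈ s ∪ t, ∃ g : G, (∀ z ∉ s ∪ t, g • z = z) ∧ g • u = w := by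
    rintro u (hu | hu)
    · obtain ⟨g, hg, hgu⟩ := hs u hu w hws
      exact ⟨g, fun z hz => hg z fun h => hz (Or.inl h), hgu⟩
    · obtain ⟨g, hg, hgu⟩ := ht u hu w hwt
      exact ⟨g, fun z hz => hg z fun h => hz (Or.inr h), hgu⟩
  obtain ⟨g, hg, hgx⟩ := hto x hx
  obtain ⟨g', hg', hgy⟩ := hto y hy
  refine ⟨g'⁻¹ * g, fun z hz => ?_, ?_⟩
  · rw [mul_smul, hg z hz, inv_smul_eq_iff, hg' z hz]
  · rw [mul_smul, hgx, inv_smul_eq_iff, hgy]

theorem ncard_smul_eq (a : G) (s : Set Ω) : (a • s).ncard = s.ncard :=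
  Set.ncard_image_of_injective s (MulAction.injective a)

variable [Finite Ω]

theorem two_transitive_of_jordan (hprim : MulAction.IsPreprimitive G Ω) {s : Set Ω}
    (hs : IsJordanSet G s) (h1 : 1 < s.ncard) (h2 : s.ncard < Nat.card Ω) :
    MulAction.IsMultiplyPretransitive G Ω 2 := by
  have hc := Set.ncard_add_ncard_compl s
  refine hprim.is_two_pretransitive (s := sᶜ) (n := sᶜ.ncard - 1) (by omega) (by omega) ?_
  refine ⟨fun x y => ?_⟩
  have hx : (x : Ω) ∈ s := Set.notMem_compl_iff.1 x.2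
  have hy : (y : Ω) ∈ s := Set.notMem_compl_iff.1 y.2
  obtain ⟨g, hg, hgx⟩ := hs x hx y hy
  exact ⟨⟨g, fun z => hg z z.2⟩, Subtype.ext hgx⟩

theorem exists_jordan_compl_pair (hprim : MulAction.IsPreprimitive G Ω) {Γ : Set Ω}
    (hΓ : IsJordanSet G Γ) (h1 : 1 < Γ.ncard) (h2 : 2 * Γ.ncard ≤ Nat.card Ω) :
    ∃ a b : Ω, a ≠ b ∧ IsJordanSet G ({a, b}ᶜ : Set Ω) := by
  classical
  set n := Nat.card Ω
  obtain ⟨J, ⟨hJ, hJ1, hJn⟩, hmax⟩ : ∃ J : Set Ω, (IsJordanSet G J ∧ 1 < J.ncard ∧ J.ncard + 2 ≤ n) ∧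
      ∀ t : Set Ω, IsJordanSet G t → t.ncard + 2 ≤ n → t.ncard ≤ J.ncard := by
    obtain ⟨J, hJ, hmax⟩ := (Set.toFinite {t : Set Ω | IsJordanSet G t ∧ 1 < t.ncard ∧ t.ncard + 2 ≤ n}).exists_maximalFor
      (fun t => t.ncard) _ ⟨Γ, hΓ, h1, by omega⟩
    refine ⟨J, hJ, fun t ht htn => ?_⟩
    rcases le_total t.ncard J.ncard with h | h
    · exact h
    · rcases eq_or_lt_of_le h with h' | h'
      · exact h'.ge
      · exact hmax ⟨ht, by have := hJ.2.1; omega, htn⟩ h
  have hJc := Set.ncard_add_ncard_compl J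
  rcases Nat.lt_or_ge (J.ncard + 2) n with hlt | hge
  swap
  · obtain ⟨a, b, hab, hK⟩ := Set.ncard_eq_two.1 (show Jᶜ.ncard = 2 by omega)
    exact ⟨a, b, hab, by rw [← hK, compl_compl]; exact hJ⟩
  exfalso
  set K := Jᶜ with hK
  have hK3 : 3 ≤ K.ncard := by omega
  -- two different translates of `K` share at most one point
  have hmeet : ∀ g : G, g • K ≠ K → (g • K ∩ K).ncard ≤ 1 := by
    intro g hg
    have hgJ : g • J ≠ J := fun h => hg (by rw [hK, Set.smul_set_compl, h])
    have hinter : (g • K ∩ K) = (g • J ∪ J)ᶜ := by rw [Set.compl_union, hK, Set.smul_set_compl]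
    have hcu := Set.ncard_add_ncard_compl (g • J ∪ J)
    have hie := Set.ncard_union_add_ncard_inter (g • J) J
    rw [ncard_smul_eq] at hie
    by_cases hne : (g • J ∩ J).Nonempty
    · have hu := (hJ.smul g).union hJ hne
      by_contra hbig
      rw [hinter] at hbig
      have hle := hmax _ hu (by omega)
      exact hgJ (Set.eq_of_subset_of_ncard_le (Set.subset_union_left.trans
        (Set.eq_of_subset_of_ncard_le Set.subset_union_right hle).ge) (by rw [ncard_smul_eq]))
    · rw [Set.not_nonempty_iff_eq_empty] at hne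
      rw [hne, Set.ncard_empty] at hie
      -- then `J` is at least half of the points
      by_contra hbig
      rw [hinter] at hbig
      haveI := hprim
      rcases hprim.isTrivialBlock_of_isBlock (B := J) (by
        intro g₁ g₂ hne'
        by_contra hdis
        obtain ⟨w, hw1, hw2⟩ := Set.not_disjoint_iff.1 hdis
        set h := g₂⁻¹ * g₁
        have hJne : h • J ≠ J := fun hh => hne' (by
          rw [← smul_inv_smul g₂ (g₁ • J), ← mul_smul g₂⁻¹ g₁ J, hh])
        have hmem : (h • J ∩ J).Nonempty := ⟨g₂⁻¹ • w, by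
          rw [mul_smul]; exact Set.smul_mem_smul_set hw1, Set.mem_smul_set_iff_inv_smul_mem.1 hw2⟩
        have hu := (hJ.smul h).union hJ hmem
        have hie' := Set.ncard_union_add_ncard_inter (h • J) J
        rw [ncard_smul_eq] at hie'
        have hp := (Set.ncard_pos (Set.toFinite _)).2 hmem
        have hle := hmax _ hu (by omega)
        exact hJne (Set.eq_of_subset_of_ncard_le (Set.subset_union_left.trans
          (Set.eq_of_subset_of_ncard_le Set.subset_union_right hle).ge) (by rw [ncard_smul_eq]))) with hb | hb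
      · have := Set.ncard_le_one_iff_subsingleton.2 hb
        omega
      · rw [hb, Set.ncard_univ] at hJ1 hJn
        omega
  have h2t := two_transitive_of_jordan hprim hΓ h1 (by omega)
  -- lines through two points
  have hline : ∀ x y : Ω, x ≠ y → ∃ g : G, x ∈ g • K ∧ y ∈ g • K := by
    intro x y hxy
    obtain ⟨p, hp, q, hq, hpq⟩ := (Set.one_lt_ncard (Set.toFinite K)).1 (by omega)
    obtain ⟨g, hg1, hg2⟩ := (MulAction.is_two_pretransitive_iff.1 h2t) hpq hxy
    exact ⟨g, hg1 ▸ Set.smul_mem_smul_set hp, hg2 ▸ Set.smul_mem_smul_set hq⟩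
  have huniq : ∀ (g g' : G) (x y : Ω), x ≠ y → x ∈ g • K → y ∈ g • K → x ∈ g' • K → y ∈ g' • K →
      g • K = g' • K := by
    intro g g' x y hxy hx hy hx' hy'
    by_contra hne
    have h := hmeet (g'⁻¹ * g) (fun hh => hne (by rw [← smul_inv_smul g' (g • K), ← mul_smul g'⁻¹, hh]))
    rw [Set.mem_smul_set_iff_inv_smul_mem] at hx' hy'
    refine hxy (MulAction.injective g'⁻¹ ((Set.ncard_le_one (Set.toFinite _)).1 h _ ⟨?_, hx'⟩ _ ⟨?_, hy'⟩))
    · rw [mul_smul]; exact Set.smul_mem_smul_set hx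
    · rw [mul_smul]; exact Set.smul_mem_smul_set hy
  -- a small Jordan set against a line
  have htri : ∀ g : G, Γ ⊆ g • K ∨ Disjoint Γ (g • K) ∨ (g • K \ Γ).ncard ≤ 1 := by
    intro g
    have hgK : g • K = (g • J)ᶜ := by rw [hK, Set.smul_set_compl]
    by_cases hne : (Γ ∩ g • J).Nonempty
    · right
      by_cases hsub : Γ ⊆ g • J
      · exact Or.inl (by rw [hgK]; exact disjoint_compl_right.mono_left hsub)
      · right
        have hu := hΓ.union (hJ.smul g) hne
        have hcu := Set.ncard_add_ncard_compl (Γ ∪ g • J)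
        have heq : g • K \ Γ = (Γ ∪ g • J)ᶜ := by
          rw [Set.compl_union, hgK, Set.sdiff_eq, Set.inter_comm]
        rw [heq]
        by_contra hbig
        have hle := hmax _ hu (by omega)
        refine hsub (Set.subset_union_left.trans (Set.eq_of_subset_of_ncard_le Set.subset_union_right ?_).ge)
        rw [ncard_smul_eq]; exact hle
    · left
      intro z hz
      rw [hgK]
      exact fun hzJ => hne ⟨z, hz, hzJ⟩
  have hnsub : ∀ g : G, ¬ Γ ⊆ g • K := by
    intro g hsub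
    obtain ⟨x, hx, x', hx', hxx⟩ := (Set.one_lt_ncard (Set.toFinite Γ)).1 h1
    obtain ⟨y, hy⟩ : ∃ y, y ∉ g • K := by
      by_contra hall
      push Not at hall
      have := ncard_smul_eq g K
      rw [Set.eq_univ_of_forall hall, Set.ncard_univ] at this
      omega
    obtain ⟨g', hx1, hy1⟩ := hline x y (fun h => hy (h ▸ hsub hx))
    have hne : g' • K ≠ g • K := fun h => hy (h ▸ hy1)
    have hone : ∀ z ∈ Γ, z ∈ g' • K → z = x := fun z hz hz' => by
      by_contra hzx
      exact hne (huniq g' g z x hzx hz' hx1 (hsub hz) (hsub hx))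
    rcases htri g' with h | h | h
    · exact hxx (hone x' hx' (h hx')).symm
    · exact Set.disjoint_left.1 h hx hx1
    · have hs : g' • K ⊆ insert x (g' • K \ Γ) := fun z hz => by
        by_cases hzΓ : z ∈ Γ
        · exact Or.inl (hone z hzΓ hz)
        · exact Or.inr ⟨hz, hzΓ⟩
      have := (Set.ncard_le_ncard hs (Set.toFinite _)).trans (Set.ncard_insert_le _ _)
      rw [ncard_smul_eq] at this
      omega
  -- count the lines at a point of `Γ`
  obtain ⟨x, hx⟩ : Γ.Nonempty := (Set.ncard_pos (Set.toFinite _)).1 (by omega)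
  have key : ∀ y ∈ Γᶜ, ∃ z ∈ Γ \ {x}, ∃ g : G, x ∈ g • K ∧ y ∈ g • K ∧ z ∈ g • K ∧ (g • K \ Γ).ncard ≤ 1 := by
    intro y hy
    obtain ⟨g, hg1, hg2⟩ := hline x y (fun h => hy (h ▸ hx))
    rcases htri g with h | h | h
    · exact absurd h (hnsub g)
    · exact absurd hg1 (Set.disjoint_left.1 h hx)
    · obtain ⟨z, hzK, hzx, hzy⟩ : ∃ z ∈ g • K, z ≠ x ∧ z ≠ y := by
        by_contra hall
        push Not at hall
        have hs : g • K ⊆ {x, y} := fun z hz => by
          by_cases hzx : z = x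
          · exact Or.inl hzx
          · exact Or.inr (hall z hz hzx)
        have := (Set.ncard_le_ncard hs).trans (Set.ncard_insert_le _ _)
        rw [ncard_smul_eq, Set.ncard_singleton] at this
        omega
      refine ⟨z, ⟨?_, hzx⟩, g, hg1, hg2, hzK, h⟩
      by_contra hzΓ
      exact hzy ((Set.ncard_le_one (Set.toFinite _)).1 h z ⟨hzK, hzΓ⟩ y ⟨hg2, hy⟩)
  choose φ hφ gl hgl using key
  have hinj : ∀ (y : Ω) (hy : y ∈ Γᶜ) (y' : Ω) (hy' : y' ∈ Γᶜ), φ y hy = φ y' hy' → y = y' := by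
    intro y hy y' hy' he
    obtain ⟨a1, a2, a3, a4⟩ := hgl y hy
    obtain ⟨b1, b2, b3, -⟩ := hgl y' hy'
    have heq := huniq _ _ x (φ y hy) (fun h => (hφ y hy).2 h.symm) a1 a3 b1 (he ▸ b3)
    exact (Set.ncard_le_one (Set.toFinite _)).1 a4 y ⟨a2, hy⟩ y' ⟨heq ▸ b2, hy'⟩
  have hcount : Γᶜ.ncard ≤ (Γ \ {x}).ncard :=
    Set.ncard_le_ncard_of_injOn (fun y => if hy : y ∈ Γᶜ then φ y hy else y)
      (fun y hy => by simp only [dif_pos hy]; exact hφ y hy)
      (fun y hy y' hy' h => by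
        simp only [dif_pos hy, dif_pos hy'] at h
        exact hinj y hy y' hy' h)
      (Set.toFinite _)
  rw [Set.ncard_sdiff_singleton_of_mem hx] at hcount
  have := Set.ncard_add_ncard_compl Γ
  omega

theorem three_transitive_of_jordan (hprim : MulAction.IsPreprimitive G Ω) {Γ : Set Ω}
    (hΓ : IsJordanSet G Γ) (h1 : 1 < Γ.ncard) (h2 : 2 * Γ.ncard ≤ Nat.card Ω) :
    MulAction.IsMultiplyPretransitive G Ω 3 := by
  have h2t := two_transitive_of_jordan hprim hΓ h1 (by omega)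
  obtain ⟨a, b, hab, hJ⟩ := exists_jordan_compl_pair hprim hΓ h1 h2
  refine ⟨fun x y => ?_⟩
  -- move the first two points to `a`, `b`
  have hnorm : ∀ u : Fin 3 ↪ Ω, ∃ g : G, g • u 0 = a ∧ g • u 1 = b ∧ g • u 2 ∈ ({a, b}ᶜ : Set Ω) := by
    intro u
    obtain ⟨g, hg0, hg1⟩ := (MulAction.is_two_pretransitive_iff.1 h2t)
      (u.injective.ne (show (0 : Fin 3) ≠ 1 by decide)) hab
    refine ⟨g, hg0, hg1, ?_⟩
    rintro (h | h)
    · exact absurd (u.injective (MulAction.injective g (h.trans hg0.symm))) (by decide)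
    · exact absurd (u.injective (MulAction.injective g (h.trans hg1.symm))) (by decide)
  obtain ⟨g, g0, g1, g2⟩ := hnorm x
  obtain ⟨g', g0', g1', g2'⟩ := hnorm y
  obtain ⟨k, hk, hk2⟩ := hJ _ g2 _ g2'
  have hka : k • a = a := hk a (fun h => h (Or.inl rfl))
  have hkb : k • b = b := hk b (fun h => h (Or.inr rfl))
  refine ⟨g'⁻¹ * k * g, Function.Embedding.ext fun i => ?_⟩
  rw [Function.Embedding.smul_apply, mul_smul, mul_smul, inv_smul_eq_iff]
  fin_cases i
  · exact (congrArg (k • ·) g0).trans (hka.trans g0'.symm)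
  · exact (congrArg (k • ·) g1).trans (hkb.trans g1'.symm)
  · exact hk2

end CfsgLib.Base.Small
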