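import Mathlib.GroupTheory.Sylow
import Mathlib.GroupTheory.SpecificGroups.Alternating
import Mathlib.GroupTheory.GroupAction.Quotient
import Mathlib.Tactic

/-! The simple group of order sixty. -/

set_option autoImplicit false
set_option linter.style.haveILetI false

namespace CfsgLib.OrderSixty

open Subgroup

universe u
variable {G : Type u} [Group G] [Finite G] [IsSimpleGroup G]

theorem index_ge_five (h : Nat.card G = 60) (H : Subgroup G) (hH : H ≠ ⊤) : 5 ≤ H.index := by
  have hinj : Function.Injective (MulAction.toPermHom G (G ⧸ H)) := by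
    rw [← MonoidHom.ker_eq_bot_iff, ← normalCore_eq_ker]
    rcases H.normalCore_normal.eq_bot_or_eq_top with e | e
    · exact e
    · exact absurd (top_le_iff.1 (e ▸ H.normalCore_le)) hH
  by_contra hlt
  have := Nat.card_le_card_of_injective _ hinj
  rw [Nat.card_perm, h, ← index_eq_card] at this
  have := this.trans (Nat.factorial_le (Nat.le_of_lt_succ (not_le.1 hlt)))
  norm_num [Nat.factorial] at this

theorem not_normal (h : Nat.card G = 60) {p : ℕ} [Fact p.Prime] (hp : p ∣ 60) (P : Sylow p G) :
    2 ≤ Nat.card (Sylow p G) ∧ Subgroup.normalizer (P : Set G) ≠ ⊤ := by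
  have hne : (P : Subgroup G) ≠ ⊥ := P.ne_bot_of_dvd_card (h ▸ hp)
  have hn : Subgroup.normalizer (P : Set G) ≠ ⊤ := fun e => by
    have hN : (P : Subgroup G).Normal := normalizer_eq_top_iff.1 e
    rcases hN.eq_bot_or_eq_top with e' | e'
    · exact hne e'
    · have hP := P.isPGroup'
      obtain ⟨k, hk⟩ := IsPGroup.iff_card.1 hP
      rw [e', card_top, h] at hk
      have h2 : Nat.Prime p := Fact.out
      have a2 : 2 ∣ p ^ k := hk ▸ (by norm_num)
      have a3 : 3 ∣ p ^ k := hk ▸ (by norm_num)
      have := (Nat.prime_dvd_prime_iff_eq Nat.prime_two h2).1 (Nat.prime_two.dvd_of_dvd_pow a2)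
      have := (Nat.prime_dvd_prime_iff_eq Nat.prime_three h2).1 (Nat.prime_three.dvd_of_dvd_pow a3)
      omega
  refine ⟨?_, hn⟩
  rw [Sylow.card_eq_index_normalizer P]
  exact one_lt_index_of_ne_top hn

theorem card_sylow_five (h : Nat.card G = 60) [Fact (Nat.Prime 5)] (P : Sylow 5 G) :
    Nat.card (P : Subgroup G) = 5 ∧ Nat.card (Sylow 5 G) = 6 := by
  have hP : Nat.card (P : Subgroup G) = 5 := by
    rw [Sylow.card_eq_multiplicity, h, show (60 : ℕ) = 5 * 12 by norm_num, Nat.factorization_mul (by norm_num) (by norm_num),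
      Finsupp.coe_add, Pi.add_apply, Nat.Prime.factorization_self (Fact.out),
      Nat.factorization_eq_zero_of_not_dvd (by norm_num)]
    norm_num
  have hm := card_sylow_modEq_one 5 G
  have hd := Sylow.card_dvd_index P
  have hi := (P : Subgroup G).card_mul_index
  rw [hP, h] at hi
  rw [show (P : Subgroup G).index = 12 by omega] at hd
  have h2 := (not_normal h (by norm_num) P).1
  refine ⟨hP, ?_⟩
  have := Nat.le_of_dvd (by norm_num) hd
  rw [Nat.ModEq] at hm
  interval_cases hs : Nat.card (Sylow 5 G) <;> simp_all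

theorem exists_index_five (h : Nat.card G = 60) : ∃ H : Subgroup G, H.index = 5 := by
  classical
  haveI : Fact (Nat.Prime 2) := ⟨Nat.prime_two⟩
  haveI : Fact (Nat.Prime 5) := ⟨by norm_num⟩
  obtain ⟨P⟩ := (inferInstance : Nonempty (Sylow 2 G))
  have hP4 : ∀ P : Sylow 2 G, Nat.card (P : Subgroup G) = 4 := fun P => by
    rw [Sylow.card_eq_multiplicity, h, show (60 : ℕ) = 2 ^ 2 * 15 by norm_num,
      Nat.factorization_mul (by norm_num) (by norm_num), Finsupp.coe_add, Pi.add_apply,
      Nat.factorization_pow, Finsupp.coe_smul, Pi.smul_apply, Nat.Prime.factorization_self Nat.prime_two,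
      Nat.factorization_eq_zero_of_not_dvd (by norm_num)]
    norm_num
  have hd := Sylow.card_dvd_index P
  have hi := (P : Subgroup G).card_mul_index
  rw [hP4, h] at hi
  rw [show (P : Subgroup G).index = 15 by omega] at hd
  obtain ⟨h2, hN⟩ := not_normal h (by norm_num) P
  have h5 := index_ge_five h _ hN
  rw [← Sylow.card_eq_index_normalizer P] at h5
  have hn : Nat.card (Sylow 2 G) = 5 ∨ Nat.card (Sylow 2 G) = 15 := by
    have := Nat.le_of_dvd (by norm_num) hd
    interval_cases hs : Nat.card (Sylow 2 G) <;> simp_all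
  rcases hn with hn | hn
  · exact ⟨_, (Sylow.card_eq_index_normalizer P).symm.trans hn⟩
  by_cases hint : ∀ A B : Sylow 2 G, A ≠ B → (A : Subgroup G) ⊓ B = ⊥
  · exfalso
    let f : (Σ A : Sylow 2 G, {x : (A : Subgroup G) // x ≠ 1}) ⊕
        (Σ B : Sylow 5 G, {x : (B : Subgroup G) // x ≠ 1}) → {x : G // x ≠ 1} :=
      Sum.elim (fun a => ⟨a.2.1.1, fun e => a.2.2 (Subtype.ext e)⟩)
        (fun b => ⟨b.2.1.1, fun e => b.2.2 (Subtype.ext e)⟩)
    have hord2 : ∀ (A : Sylow 2 G) (x : (A : Subgroup G)), orderOf (x : G) ∣ 4 := fun A x => by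
      rw [Subgroup.orderOf_coe, ← hP4 A]; exact orderOf_dvd_natCard x
    have hord5 : ∀ (B : Sylow 5 G) (x : (B : Subgroup G)), x ≠ 1 → orderOf (x : G) = 5 := fun B x hx => by
      rw [Subgroup.orderOf_coe]
      have := orderOf_dvd_natCard x
      rw [(card_sylow_five h B).1, Nat.dvd_prime Fact.out] at this
      exact this.resolve_left fun e => hx (orderOf_eq_one_iff.1 e)
    have hf : Function.Injective f := by
      rintro (⟨A, x, hx⟩ | ⟨A, x, hx⟩) (⟨B, y, hy⟩ | ⟨B, y, hy⟩) e
      · have e' : (x : G) = y := congrArg Subtype.val e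
        have hAB : A = B := by
          by_contra hne
          have hmem : (x : G) ∈ (A : Subgroup G) ⊓ B := ⟨x.2, e' ▸ y.2⟩
          rw [hint A B hne, mem_bot] at hmem
          exact hx (Subtype.ext hmem)
        subst hAB
        simp [Subtype.ext e']
      · exfalso
        have e' : (x : G) = y := congrArg Subtype.val e
        have := hord2 A x
        rw [e', hord5 B y hy] at this
        norm_num at this
      · exfalso
        have e' : (x : G) = y := congrArg Subtype.val e
        have := hord2 B y
        rw [← e', hord5 A x hx] at this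
        norm_num at this
      · have e' : (x : G) = y := congrArg Subtype.val e
        have hAB : A = B := by
          apply Sylow.ext
          have key : ∀ (C : Sylow 5 G) (z : G), z ∈ (C : Subgroup G) → orderOf z = 5 → zpowers z = C :=
            fun C z hz ho => eq_of_le_of_card_ge (zpowers_le.2 hz)
              (by rw [(card_sylow_five h C).1, Nat.card_zpowers, ho])
          rw [← key A x x.2 (hord5 A x hx), ← key B y y.2 (hord5 B y hy), e']
        subst hAB
        simp [Subtype.ext e']
    have hle := Nat.card_le_card_of_injective f hf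
    haveI := Fintype.ofFinite G
    obtain ⟨Q⟩ := (inferInstance : Nonempty (Sylow 5 G))
    rw [Nat.card_sum, Nat.card_sigma, Nat.card_sigma] at hle
    have c2 : ∀ A : Sylow 2 G, Nat.card {x : (A : Subgroup G) // x ≠ 1} = 3 := fun A => by
      haveI := Fintype.ofFinite (A : Subgroup G)
      rw [Nat.card_eq_fintype_card, Fintype.card_subtype_compl, Fintype.card_subtype_eq,
        ← Nat.card_eq_fintype_card, hP4]
    have c5 : ∀ B : Sylow 5 G, Nat.card {x : (B : Subgroup G) // x ≠ 1} = 4 := fun B => by
      haveI := Fintype.ofFinite (B : Subgroup G)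
      rw [Nat.card_eq_fintype_card, Fintype.card_subtype_compl, Fintype.card_subtype_eq,
        ← Nat.card_eq_fintype_card, (card_sylow_five h B).1]
    simp only [c2, c5, Finset.sum_const, Finset.card_univ, smul_eq_mul, ← Nat.card_eq_fintype_card, hn,
      (card_sylow_five h Q).2] at hle
    have h59 : Nat.card {x : G // x ≠ 1} = 59 := by
      rw [Nat.card_eq_fintype_card, Fintype.card_subtype_compl, Fintype.card_subtype_eq,
        ← Nat.card_eq_fintype_card, h]
    omega
  push Not at hint
  obtain ⟨A, B, hAB, hint⟩ := hint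
  obtain ⟨⟨t, ht⟩, ht1'⟩ := ne_bot_iff_exists_ne_one.1 hint
  have ht1 : t ≠ 1 := fun e => ht1' (Subtype.ext e)
  set C := centralizer ({t} : Set G) with hC
  have hab : ∀ A : Sylow 2 G, IsMulCommutative (A : Subgroup G) := fun A => by
    haveI : Fact (Nat.Prime 2) := ⟨Nat.prime_two⟩
    exact IsPGroup.isMulCommutative_of_card_eq_prime_sq (show Nat.card (A : Subgroup G) = 2 ^ 2 by rw [hP4]; norm_num)
  have hle : ∀ A : Sylow 2 G, t ∈ (A : Subgroup G) → (A : Subgroup G) ≤ C := fun A htA x hx =>
    mem_centralizer_singleton_iff.2 (congrArg Subtype.val ((hab A).is_comm.comm ⟨x, hx⟩ ⟨t, htA⟩))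
  have hA := hle A ht.1
  have hB := hle B ht.2
  have hCtop : C ≠ ⊤ := fun e => by
    have hc : t ∈ center G := mem_center_iff.2 fun g => mem_centralizer_singleton_iff.1 (e ▸ mem_top g : g ∈ C)
    rcases (inferInstance : (center G).Normal).eq_bot_or_eq_top with e' | e'
    · rw [e', mem_bot] at hc; exact ht1 hc
    · apply hN
      refine eq_top_iff.2 fun g _ => mem_normalizer_iff.2 fun x => ?_
      have hg : g ∈ center G := e' ▸ mem_top g
      rw [mem_center_iff.1 (e' ▸ mem_top x : x ∈ center G) g, mul_inv_cancel_right]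
  have h5C := index_ge_five h C hCtop
  have hd4 : 4 ∣ Nat.card C := hP4 A ▸ card_dvd_of_le hA
  have hlt : 4 < Nat.card C := by
    by_contra hle4
    have eA := eq_of_le_of_card_ge hA (by rw [hP4]; omega)
    have eB := eq_of_le_of_card_ge hB (by rw [hP4]; omega)
    exact hAB (Sylow.ext (eA.trans eB.symm))
  refine ⟨C, ?_⟩
  have hci := C.card_mul_index
  rw [h] at hci
  obtain ⟨k, hk⟩ := hd4
  rw [hk] at hlt hci
  have hk2 : 2 ≤ k := by omega
  have : C.index ∣ 15 := ⟨k, by linarith⟩
  have hki : k * C.index = 15 := by linarith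
  have h15 := Nat.le_of_dvd (by norm_num) this
  interval_cases hs : C.index <;> omega

theorem iso_alt5 (h : Nat.card G = 60) : Nonempty (G ≃* alternatingGroup (Fin 5)) := by
  classical
  obtain ⟨H, hH⟩ := exists_index_five h
  haveI := Fintype.ofFinite (G ⧸ H)
  let e : G ⧸ H ≃ Fin 5 := (Finite.equivFin _).trans (finCongr ((index_eq_card H).symm.trans hH))
  let φ : G →* Equiv.Perm (Fin 5) :=
    (e.permCongrHom : Equiv.Perm (G ⧸ H) ≃* Equiv.Perm (Fin 5)).toMonoidHom.comp (MulAction.toPermHom G (G ⧸ H))
  have hinj : Function.Injective φ := by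
    rw [← MonoidHom.ker_eq_bot_iff]
    rcases (inferInstance : φ.ker.Normal).eq_bot_or_eq_top with e' | e'
    · exact e'
    · exfalso
      have hall : ∀ g : G, g ∈ H := fun g => by
        have : φ g = 1 := by rw [← MonoidHom.mem_ker, e']; exact mem_top g
        have h1 : MulAction.toPermHom G (G ⧸ H) g = 1 := by
          have := (map_eq_one_iff _ e.permCongrHom.injective).1 this
          exact this
        have h2 := Equiv.ext_iff.1 h1 ((1 : G) : G ⧸ H)
        simpa [QuotientGroup.eq] using h2
      rw [(eq_top_iff' H).2 hall, index_top] at hH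
      omega
  have hidx : φ.range.index = 2 := by
    have := φ.range.card_mul_index
    rw [Nat.card_congr (MonoidHom.ofInjective hinj).toEquiv.symm, h, Nat.card_perm, Nat.card_fin] at this
    norm_num [Nat.factorial] at this
    omega
  exact ⟨(MonoidHom.ofInjective hinj).trans
    (MulEquiv.subgroupCongr (Equiv.Perm.eq_alternatingGroup_of_index_eq_two hidx))⟩

end CfsgLib.OrderSixty
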