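import Mathlib

/-! Element orders of a split extension of a group by one of its elementary abelian normal subgroups. -/

set_option autoImplicit false
set_option linter.style.haveILetI false

namespace CfsgLib.Base.Small

theorem range_orderOf_semidirect {G : Type*} [Group G] [Finite G] (V : Subgroup G) [V.Normal] (p : ℕ)
    (hp : p.Prime) (hexp : ∀ x : V, x ^ p = 1) :
    Set.range (orderOf : V ⋊[MulAut.conjNormal] G → ℕ) = Set.range (orderOf : G → ℕ) := by
  classical
  haveI := Fact.mk hp
  set φ : G →* MulAut V := MulAut.conjNormal with hφdef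
  have hφ : ∀ (g : G) (v : V), ((φ g v : V) : G) = g * v * g⁻¹ := fun g v => MulAut.conjNormal_apply g v
  let μ : V ⋊[φ] G →* G :=
    { toFun := fun x => (x.left : G) * x.right
      map_one' := by simp
      map_mul' := fun x y => by
        simp only [SemidirectProduct.mul_left, SemidirectProduct.mul_right, Subgroup.coe_mul, hφ]
        group }
  have hψ : Function.Injective (μ.prod SemidirectProduct.rightHom) := by
    intro x y h
    simp only [MonoidHom.prod_apply, Prod.mk.injEq] at h
    obtain ⟨h1, h2⟩ := h
    refine SemidirectProduct.ext (Subtype.ext ?_) h2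
    change (x.left : G) * x.right = y.left * y.right at h1
    change x.right = y.right at h2
    rw [h2] at h1
    exact mul_right_cancel h1
  apply Set.Subset.antisymm
  · rintro n ⟨x, rfl⟩
    show orderOf x ∈ _
    rw [← orderOf_injective _ hψ x]
    simp only [MonoidHom.prod_apply, Prod.orderOf]
    set g := x.right
    set q : G →* G ⧸ V := QuotientGroup.mk' V
    have hb : ∀ a : G, orderOf (q a) = orderOf (q g) →
        orderOf a = orderOf (q g) ∨ orderOf a = p * orderOf (q g) := by
      intro a ha
      have h1 : q (a ^ orderOf (q g)) = 1 := by rw [map_pow, ← ha, pow_orderOf_eq_one]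
      have h2 : (a ^ orderOf (q g)) ^ p = 1 := by
        have := hexp ⟨_, (QuotientGroup.eq_one_iff _).1 h1⟩
        exact congrArg Subtype.val this
      rw [← pow_mul] at h2
      obtain ⟨d, hd⟩ : orderOf (q g) ∣ orderOf a := ha ▸ orderOf_map_dvd q a
      have h3 := orderOf_dvd_of_pow_eq_one h2
      rw [hd, Nat.mul_dvd_mul_iff_left (orderOf_pos (q g))] at h3
      rcases (Nat.dvd_prime hp).1 h3 with rfl | rfl
      · left; rw [hd, mul_one]
      · right; rw [hd, mul_comm]
    have hq : q (μ x) = q g := by
      show q ((x.left : G) * g) = q g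
      rw [map_mul, show q (x.left : G) = 1 from (QuotientGroup.eq_one_iff _).2 x.left.2, one_mul]
    have hr : SemidirectProduct.rightHom x = g := rfl
    rw [hr]
    rcases hb (μ x) (by rw [hq]) with h | h <;> rcases hb g rfl with h' | h'
    · exact ⟨g, by rw [h, h', Nat.lcm_self]⟩
    · exact ⟨g, by rw [h, h', Nat.lcm_eq_right (dvd_mul_left _ _)]⟩
    · exact ⟨μ x, by rw [h, h', Nat.lcm_eq_left (dvd_mul_left _ _)]⟩
    · exact ⟨g, by rw [h, h', Nat.lcm_self]⟩
  · rintro n ⟨g, rfl⟩
    exact ⟨SemidirectProduct.inr g, orderOf_injective _ SemidirectProduct.inr_injective g⟩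

end CfsgLib.Base.Small
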