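import Cfsg.Agent.Solv.FixedPointFree
import Cfsg.Agent.Solv.Basic

/-! Lucido's three primes lemma: along a series with three primes, two of them are adjacent. -/

set_option autoImplicit false

namespace CfsgLib.Base.Small

open scoped Pointwise

variable {G : Type*} [Group G] [Finite G]

theorem adjacent_of_commute {a b : G} {p q : ℕ} (hp : p.Prime) (hq : q.Prime) (hpq : p ≠ q)
    (ha : orderOf a = p) (hb : orderOf b = q) (hc : Commute a b) : ∃ x : G, orderOf x = p * q :=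
  ⟨a * b, by rw [hc.orderOf_mul_eq_mul_orderOf_of_coprime
    (by rw [ha, hb]; exact (Nat.coprime_primes hp hq).2 hpq), ha, hb]⟩

theorem center_map_spec (P : Subgroup G) :
    (∀ v ∈ (Subgroup.center P).map P.subtype, v ∈ P ∧ ∀ x ∈ P, Commute v x) ∧
      (∀ n : G, n ∈ Subgroup.normalizer (P : Set G) →
        n ∈ Subgroup.normalizer (((Subgroup.center P).map P.subtype : Subgroup G) : Set G)) := by
  have h1 : ∀ v ∈ (Subgroup.center P).map P.subtype, v ∈ P ∧ ∀ x ∈ P, Commute v x := by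
    rintro _ ⟨⟨v, hv⟩, hvc, rfl⟩
    exact ⟨hv, fun x hx => (congrArg Subtype.val (Subgroup.mem_center_iff.1 hvc ⟨x, hx⟩)).symm⟩
  refine ⟨h1, fun n hn => Subgroup.mem_normalizer_fintype fun v hv => ?_⟩
  obtain ⟨hvP, hvc⟩ := h1 v hv
  have hmem := (Subgroup.mem_normalizer_iff.1 hn v).1 hvP
  refine ⟨⟨_, hmem⟩, Subgroup.mem_center_iff.2 fun x => Subtype.ext ?_, rfl⟩
  show (x : G) * (n * v * n⁻¹) = n * v * n⁻¹ * x
  have h2 := (hvc (n⁻¹ * x * n) ((Subgroup.mem_normalizer_iff''.1 hn x).1 x.2)).eq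
  calc (x : G) * (n * v * n⁻¹) = n * ((n⁻¹ * x * n) * v) * n⁻¹ := by group
    _ = n * (v * (n⁻¹ * x * n)) * n⁻¹ := by rw [h2]
    _ = _ := by group

theorem center_map_ne_bot {r : ℕ} [Fact r.Prime] {P : Subgroup G} (hP : IsPGroup r P) (h : P ≠ ⊥) :
    (Subgroup.center P).map P.subtype ≠ ⊥ := by
  haveI : Nontrivial P := (Subgroup.nontrivial_iff_ne_bot P).2 h
  haveI := hP.center_nontrivial
  rw [Ne, Subgroup.map_eq_bot_iff_of_injective _ Subtype.val_injective]
  exact (Subgroup.nontrivial_iff_ne_bot _).1 inferInstance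

theorem fpf_of_no_element {p : ℕ} [hp : Fact p.Prime] {V : Subgroup G} (hV : IsPGroup p V)
    {A : Subgroup G} (h : ∀ a ∈ A, a ≠ 1 → ∃ j, ∃ q : ℕ, q.Prime ∧ q ≠ p ∧ orderOf (a ^ j) = q ∧
      ¬ ∃ x : G, orderOf x = p * q) :
    ∀ a ∈ A, a ≠ 1 → V ⊓ Subgroup.centralizer {a} = ⊥ := by
  intro a ha ha1
  rw [Subgroup.eq_bot_iff_forall]
  rintro v ⟨hv, hva⟩
  by_contra hv1
  obtain ⟨j, q, hq, hqp, ho, hno⟩ := h a ha ha1
  obtain ⟨k, hk⟩ := IsPGroup.iff_orderOf.1 hV ⟨v, hv⟩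
  rw [Subgroup.orderOf_mk] at hk
  have hk0 : k ≠ 0 := fun hh => hv1 (orderOf_eq_one_iff.1 (by rw [hk, hh, pow_zero]))
  have hpd : p ∣ orderOf v := hk ▸ dvd_pow_self p hk0
  refine hno (adjacent_of_commute hp.out hq hqp.symm
    (orderOf_pow_orderOf_div (orderOf_pos v).ne' hpd) ho ?_)
  exact Commute.pow_pow (Subgroup.mem_centralizer_singleton_iff.1 hva) _ _

theorem exists_adjacent (K M : Subgroup G) [K.Normal] [M.Normal] (hKM : K ≤ M) {p q r : ℕ}
    (hp : p.Prime) (hq : q.Prime) (hr : r.Prime) (hpq : p ≠ q) (hpr : p ≠ r) (hqr : q ≠ r)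
    (hpK : p ∣ Nat.card K) (hqM : q ∣ Nat.card M / Nat.card K)
    (hrG : r ∣ Nat.card G / Nat.card M) :
    (∃ x : G, orderOf x = p * q) ∨ (∃ x : G, orderOf x = p * r) ∨ (∃ x : G, orderOf x = q * r) := by
  classical
  haveI := Fact.mk hp
  haveI := Fact.mk hq
  haveI := Fact.mk hr
  by_contra hcon
  push Not at hcon
  obtain ⟨hnpq, hnpr, hnqr⟩ := hcon
  -- descend to the normaliser of a Sylow subgroup of `K`
  obtain ⟨P⟩ := (inferInstance : Nonempty (Sylow p K))
  set P' : Subgroup G := (P : Subgroup K).map K.subtype with hP'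
  have hP2 : IsPGroup p P' := P.2.map _
  have hP1 : P' ≠ ⊥ := by
    rw [hP', Ne, Subgroup.map_eq_bot_iff_of_injective _ Subtype.val_injective]
    exact P.ne_bot_of_dvd_card hpK
  set N : Subgroup G := Subgroup.normalizer (P' : Set G) with hN
  have hNK : N ⊔ K = ⊤ := P.normalizer_sup_eq_top
  have hqN : q ∣ Nat.card (N ⊓ M : Subgroup G) := by
    have h1 : (N ⊓ M) ⊔ K = M := by
      refine le_antisymm (sup_le inf_le_right hKM) fun m hm => ?_
      obtain ⟨n, hn, k, hk, rfl⟩ := Subgroup.mem_sup_of_normal_right.1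
        (hNK ▸ Subgroup.mem_top m : m ∈ N ⊔ K)
      exact mul_mem (Subgroup.mem_sup_left ⟨hn, by simpa using mul_mem hm (inv_mem (hKM hk))⟩)
        (Subgroup.mem_sup_right hk)
    have h2 := CfsgLib.Solv.card_sup_mul_card_inf (N ⊓ M) K
    rw [h1] at h2
    obtain ⟨t, ht⟩ := Subgroup.card_dvd_of_le hKM
    rw [ht, Nat.mul_div_cancel_left _ Nat.card_pos] at hqM
    refine hqM.trans ⟨Nat.card ((N ⊓ M) ⊓ K : Subgroup G), ?_⟩
    rw [ht] at h2
    exact Nat.eq_of_mul_eq_mul_right (Nat.card_pos (α := K)) (by rw [← h2]; ring)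
  have hrN : r ∣ Nat.card N / Nat.card (N ⊓ M : Subgroup G) := by
    have h2 := CfsgLib.Solv.card_sup_mul_card_inf N M
    have h3 : N ⊔ M = ⊤ := top_le_iff.1 (hNK ▸ sup_le_sup_left hKM N)
    rw [h3, Subgroup.card_top] at h2
    obtain ⟨t, ht⟩ := Subgroup.card_subgroup_dvd_card M
    rw [ht, Nat.mul_div_cancel_left _ Nat.card_pos] at hrG
    have h4 : Nat.card N = t * Nat.card (N ⊓ M : Subgroup G) :=
      Nat.eq_of_mul_eq_mul_right (Nat.card_pos (α := M)) (by rw [← h2, ht]; ring)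
    rw [h4, Nat.mul_div_cancel _ Nat.card_pos]
    exact hrG
  -- and to the normaliser of a Sylow subgroup of `N ⊓ M`
  haveI hMN : (M.subgroupOf N).Normal := inferInstance
  obtain ⟨Q⟩ := (inferInstance : Nonempty (Sylow q (M.subgroupOf N)))
  set Q₀ : Subgroup N := (Q : Subgroup (M.subgroupOf N)).map (M.subgroupOf N).subtype with hQ₀
  have hcardMN : Nat.card (M.subgroupOf N) = Nat.card (N ⊓ M : Subgroup G) := by
    rw [← Subgroup.inf_subgroupOf_left]
    exact Nat.card_congr (Subgroup.subgroupOfEquivOfLe inf_le_left).toEquiv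
  set R : Subgroup N := Subgroup.normalizer (Q₀ : Set N) with hR
  have hRM : R ⊔ M.subgroupOf N = ⊤ := Q.normalizer_sup_eq_top
  have hrR : r ∣ Nat.card R := by
    have h2 := CfsgLib.Solv.card_sup_mul_card_inf R (M.subgroupOf N)
    rw [hRM, Subgroup.card_top, hcardMN] at h2
    obtain ⟨t, ht⟩ : Nat.card (N ⊓ M : Subgroup G) ∣ Nat.card N := Subgroup.card_dvd_of_le inf_le_left
    rw [ht, Nat.mul_div_cancel_left _ Nat.card_pos] at hrN
    refine hrN.trans ⟨Nat.card (R ⊓ M.subgroupOf N : Subgroup N), ?_⟩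
    rw [ht] at h2
    exact Nat.eq_of_mul_eq_mul_right (Nat.card_pos (α := (N ⊓ M : Subgroup G))) (by rw [← h2]; ring)
  obtain ⟨⟨z₀, hz₀⟩, hz₀o⟩ := exists_prime_orderOf_dvd_card' r hrR
  set z : G := (z₀ : G) with hz
  have hzo : orderOf z = r := by
    rw [hz, Subgroup.orderOf_coe]
    rw [Subgroup.orderOf_mk] at hz₀o
    exact hz₀o
  have hzN : z ∈ N := z₀.2
  set Q' : Subgroup G := Q₀.map N.subtype with hQ'
  have hQ2 : IsPGroup q Q' := (Q.2.map _).map _
  have hQ1 : Q' ≠ ⊥ := by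
    rw [hQ', Ne, Subgroup.map_eq_bot_iff_of_injective _ Subtype.val_injective, hQ₀,
      Subgroup.map_eq_bot_iff_of_injective _ Subtype.val_injective]
    exact Q.ne_bot_of_dvd_card (hcardMN ▸ hqN)
  have hQN : Q' ≤ N := Subgroup.map_subtype_le _
  have hzQ : z ∈ Subgroup.normalizer (Q' : Set G) := by
    refine Subgroup.mem_normalizer_fintype ?_
    rintro _ ⟨w, hw, rfl⟩
    exact ⟨z₀ * w * z₀⁻¹, (Subgroup.mem_normalizer_iff.1 hz₀ w).1 hw, rfl⟩
  -- the abelian groups acted upon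
  set V := (Subgroup.center P').map P'.subtype with hV
  have hV1 : V ≠ ⊥ := center_map_ne_bot hP2 hP1
  have hV2 : IsPGroup p V := hP2.to_le (Subgroup.map_subtype_le _)
  haveI : IsMulCommutative V := ⟨⟨fun a b => Subtype.ext
    ((center_map_spec P').1 a a.2 |>.2 b ((center_map_spec P').1 b b.2).1).eq⟩⟩
  have hNV : ∀ n ∈ N, n ∈ Subgroup.normalizer (V : Set G) := (center_map_spec P').2
  set W := (Subgroup.center Q').map Q'.subtype with hW
  haveI : IsMulCommutative W := ⟨⟨fun a b => Subtype.ext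
    ((center_map_spec Q').1 a a.2 |>.2 b ((center_map_spec Q').1 b b.2).1).eq⟩⟩
  have hW2 : IsPGroup q W := hQ2.to_le (Subgroup.map_subtype_le _)
  have hWcyc : IsCyclic W := by
    refine CfsgLib.Solv.isCyclic_of_fpf_abelian hV1 (fun w hw => hNV w (hQN ((center_map_spec Q').1 w hw).1)) ?_
    refine fpf_of_no_element hV2 fun a ha ha1 => ?_
    obtain ⟨k, hk⟩ := IsPGroup.iff_orderOf.1 hW2 ⟨a, ha⟩
    rw [Subgroup.orderOf_mk] at hk
    have hk0 : k ≠ 0 := fun hh => ha1 (orderOf_eq_one_iff.1 (by rw [hk, hh, pow_zero]))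
    exact ⟨_, q, hq, hpq.symm, orderOf_pow_orderOf_div (orderOf_pos a).ne' (hk ▸ dvd_pow_self q hk0),
      fun ⟨x, hx⟩ => hnpq x hx⟩
  obtain ⟨y₀, hy₀⟩ := exists_prime_orderOf_dvd_card' (G := W) q (by
    obtain ⟨k, hk⟩ := IsPGroup.iff_card.1 hW2
    rw [hk]
    refine dvd_pow_self q fun hh => center_map_ne_bot hQ2 hQ1 ?_
    rw [hh, pow_zero] at hk
    exact Subgroup.eq_bot_of_card_eq _ hk)
  set y : G := (y₀ : G) with hy
  have hyo : orderOf y = q := by rw [hy, Subgroup.orderOf_coe]; exact hy₀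
  have hzy : z * y * z⁻¹ ∈ Subgroup.zpowers y := by
    have hmem : z * y * z⁻¹ ∈ W :=
      (Subgroup.mem_normalizer_iff.1 ((center_map_spec Q').2 z hzQ) y).1 y₀.2
    letI := Fintype.ofFinite W
    have hle : (Finset.univ.filter fun a : W => a ^ q = 1).card ≤ q := IsCyclic.card_pow_eq_one_le hq.pos
    have hsub : (Finset.univ.filter fun a : W => a ∈ Subgroup.zpowers y₀) ⊆
        Finset.univ.filter fun a : W => a ^ q = 1 := by
      intro a ha
      simp only [Finset.mem_filter, Finset.mem_univ, true_and] at ha ⊢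
      exact orderOf_dvd_iff_pow_eq_one.1 (hy₀ ▸ orderOf_dvd_of_mem_zpowers ha)
    have hcard : (Finset.univ.filter fun a : W => a ∈ Subgroup.zpowers y₀).card = q := by
      rw [← Fintype.card_subtype, ← Nat.card_eq_fintype_card, Nat.card_zpowers, hy₀]
    have hym : (⟨_, hmem⟩ : W) ∈ Finset.univ.filter fun a : W => a ∈ Subgroup.zpowers y₀ := by
      rw [Finset.eq_of_subset_of_card_le hsub (hcard.symm ▸ hle)]
      simp only [Finset.mem_filter, Finset.mem_univ, true_and]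
      refine Subtype.ext ?_
      show (z * y * z⁻¹) ^ q = 1
      rw [conj_pow, ← hyo, pow_orderOf_eq_one, mul_one, mul_inv_cancel]
    obtain ⟨j, hj⟩ := Subgroup.mem_zpowers_iff.1 (Finset.mem_filter.1 hym).2
    exact ⟨j, congrArg Subtype.val hj⟩
  -- the group of order `q r`
  have hzYn : Subgroup.zpowers z ≤ Subgroup.normalizer (Subgroup.zpowers y : Set G) := by
    rw [Subgroup.zpowers_le]
    refine Subgroup.mem_normalizer_fintype ?_
    rintro _ ⟨i, rfl⟩
    show z * y ^ i * z⁻¹ ∈ Subgroup.zpowers y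
    rw [← conj_zpow]
    exact zpow_mem hzy i
  set A := Subgroup.zpowers y ⊔ Subgroup.zpowers z with hA
  have hcardA : Nat.card A = q * r := by
    have hd : Subgroup.zpowers y ⊓ Subgroup.zpowers z = ⊥ := by
      refine Subgroup.inf_eq_bot_of_coprime ?_
      rw [Nat.card_zpowers, Nat.card_zpowers, hyo, hzo]
      exact (Nat.coprime_primes hq hr).2 hqr
    have h1 : Nat.card A = Nat.card (Subgroup.zpowers y) * Nat.card (Subgroup.zpowers z) := by
      have hset : (A : Set G) = (Subgroup.zpowers y : Set G) * (Subgroup.zpowers z : Set G) := by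
        exact Subgroup.coe_mul_of_right_le_normalizer_left _ _ hzYn
      calc Nat.card A = Nat.card ((Subgroup.zpowers y : Set G) * (Subgroup.zpowers z : Set G) : Set G) := by
            rw [← hset]; rfl
        _ = _ := by
          rw [← Nat.card_prod]
          refine (Nat.card_congr (Equiv.ofBijective
            (fun x : Subgroup.zpowers y × Subgroup.zpowers z =>
              (⟨x.1 * x.2, Set.mul_mem_mul x.1.2 x.2.2⟩ :
                ((Subgroup.zpowers y : Set G) * (Subgroup.zpowers z : Set G) : Set G))) ⟨?_, ?_⟩)).symm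
          · intro a b h
            exact Subgroup.mul_injective_of_disjoint (disjoint_iff.2 hd) (congrArg Subtype.val h)
          · rintro ⟨_, a, ha, b, hb, rfl⟩
            exact ⟨(⟨a, ha⟩, ⟨b, hb⟩), rfl⟩
    rw [h1, Nat.card_zpowers, Nat.card_zpowers, hyo, hzo]
  have hyN : y ∈ N := hQN ((center_map_spec Q').1 y y₀.2).1
  have hAV : A ≤ Subgroup.normalizer (V : Set G) :=
    sup_le (Subgroup.zpowers_le.2 (hNV y hyN)) (Subgroup.zpowers_le.2 (hNV z hzN))
  have hfpf : ∀ a ∈ A, a ≠ 1 → V ⊓ Subgroup.centralizer {a} = ⊥ := by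
    refine fpf_of_no_element hV2 fun a ha ha1 => ?_
    obtain ⟨s, hs, hsd⟩ := Nat.exists_prime_and_dvd (fun hh => ha1 (orderOf_eq_one_iff.1 hh))
    have h2 : s ∣ q * r := hsd.trans (hcardA ▸ Subgroup.orderOf_dvd_natCard A ha)
    rcases hs.dvd_mul.1 h2 with h | h
    · exact ⟨_, q, hq, hpq.symm, orderOf_pow_orderOf_div (orderOf_pos a).ne'
        ((Nat.prime_dvd_prime_iff_eq hs hq).1 h ▸ hsd), fun ⟨x, hx⟩ => hnpq x hx⟩
    · exact ⟨_, r, hr, hpr.symm, orderOf_pow_orderOf_div (orderOf_pos a).ne'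
        ((Nat.prime_dvd_prime_iff_eq hs hr).1 h ▸ hsd), fun ⟨x, hx⟩ => hnpr x hx⟩
  haveI := CfsgLib.Solv.isCyclic_of_fpf_card_eq_mul hV1 hAV hfpf hq hr hcardA
  obtain ⟨g, hg⟩ := IsCyclic.exists_generator (α := A)
  exact hnqr g (by rw [Subgroup.orderOf_coe, orderOf_eq_card_of_forall_mem_zpowers hg, hcardA])

end CfsgLib.Base.Small
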