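import Cfsg.Agent.Char.Perm
import Cfsg.Agent.Char.Clifford
import Cfsg.Agent.Char.Central
import Mathlib.GroupTheory.GroupAction.MultipleTransitivity

/-! A subgroup of index `n` of a 2-transitive group of degree `n` has at most two orbits. -/

set_option autoImplicit false

namespace CfsgLib.Base.Small

open Cfsg CfsgLib.Char
open scoped ComplexConjugate

theorem sum_fixed_prod {G : Type*} [Group G] [Fintype G] (X Y : Type*) [MulAction G X] [MulAction G Y]
    [Finite X] [Finite Y] :
    ∑ g : G, (Nat.card (MulAction.fixedBy X g)) * (Nat.card (MulAction.fixedBy Y g)) =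
      Nat.card (MulAction.orbitRel.Quotient G (X × Y)) * Fintype.card G := by
  classical
  letI := Fintype.ofFinite X
  letI := Fintype.ofFinite Y
  letI : Fintype (MulAction.orbitRel.Quotient G (X × Y)) := Fintype.ofFinite _
  rw [Nat.card_eq_fintype_card, ← MulAction.sum_card_fixedBy_eq_card_orbits_mul_card_group G (X × Y)]
  refine Finset.sum_congr rfl fun g _ => ?_
  rw [← Nat.card_prod, ← Nat.card_eq_fintype_card (α := MulAction.fixedBy (X × Y) g)]
  exact Nat.card_congr ⟨fun p => ⟨(p.1.1, p.2.1), Prod.ext p.1.2 p.2.2⟩,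
    fun q => (⟨q.1.1, congrArg Prod.fst q.2⟩, ⟨q.1.2, congrArg Prod.snd q.2⟩), fun _ => rfl, fun _ => rfl⟩

theorem inner_perm_one {G : Type*} [Group G] [Fintype G] (X : Type*) [MulAction G X] [Finite X]
    [MulAction.IsPretransitive G X] [Nonempty X] :
    classInner (fun g : G => (Nat.card (MulAction.fixedBy X g) : ℂ)) (fun _ => (1 : ℂ)) = 1 := by
  classical
  letI := Fintype.ofFinite X
  letI : Fintype (MulAction.orbitRel.Quotient G X) := Fintype.ofFinite _
  rw [classInner_def]
  simp only [map_one, mul_one]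
  rw [← Nat.cast_sum, Finset.sum_congr rfl fun g _ => Nat.card_eq_fintype_card,
    MulAction.sum_card_fixedBy_eq_card_orbits_mul_card_group G X,
    show Fintype.card (MulAction.orbitRel.Quotient G X) = 1 from
      Fintype.card_eq_one_iff.2 ⟨Quotient.mk'' (Classical.arbitrary X), fun y => by
        induction y using Quotient.inductionOn' with | h b => ?_
        exact Quotient.sound' (MulAction.exists_smul_eq G (Classical.arbitrary X) b)⟩,
    one_mul, ← Nat.card_eq_fintype_card, inv_mul_cancel₀ (natCard_ne_zero G)]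

theorem inner_perm {G : Type*} [Group G] [Fintype G] (X Y : Type*) [MulAction G X] [MulAction G Y]
    [Finite X] [Finite Y] :
    classInner (fun g : G => (Nat.card (MulAction.fixedBy X g) : ℂ))
        (fun g : G => (Nat.card (MulAction.fixedBy Y g) : ℂ)) =
      Nat.card (MulAction.orbitRel.Quotient G (X × Y)) := by
  rw [classInner_def]
  simp only [Complex.conj_natCast, ← Nat.cast_mul]
  rw [← Nat.cast_sum, sum_fixed_prod X Y, Nat.cast_mul, ← Nat.card_eq_fintype_card, mul_comm (Nat.card _ : ℂ),
    ← mul_assoc, inv_mul_cancel₀ (natCard_ne_zero G), one_mul]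

theorem orbits_le_two {G Ω : Type*} [Group G] [Finite G] [MulAction G Ω] [Finite Ω]
    (h2 : MulAction.IsMultiplyPretransitive G Ω 2) (hn : 2 ≤ Nat.card Ω)
    (H : Subgroup G) (hidx : H.index = Nat.card Ω) :
    Nat.card (MulAction.orbitRel.Quotient H Ω) ≤ 2 := by
  classical
  letI := Fintype.ofFinite G
  haveI : Nonempty Ω := (Nat.card_pos_iff.1 (by omega)).1
  haveI htr : MulAction.IsPretransitive G Ω := have := h2; MulAction.isPretransitive_of_is_two_pretransitive
  let a : Ω := Classical.arbitrary Ω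
  set π : G → ℂ := fun g => (Nat.card (MulAction.fixedBy Ω g) : ℂ) with hπ
  set ρ : G → ℂ := fun g => (Nat.card (MulAction.fixedBy (G ⧸ H) g) : ℂ) with hρ
  have hπc : IsCharacter G π := by
    rw [hπ, show (fun g => (Nat.card (MulAction.fixedBy Ω g) : ℂ)) =
      indFun (MulAction.stabilizer G a) (fun _ => (1 : ℂ)) from funext fun g => (indFun_one_eq_fixed a g).symm]
    exact isCharacter_indFun _ (isCharacter_of_isIrr isIrr_one)
  have hρc : IsCharacter G ρ := by
    rw [hρ, show (fun g => (Nat.card (MulAction.fixedBy (G ⧸ H) g) : ℂ)) =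
      indFun H (fun _ => (1 : ℂ)) from funext fun g => (indFun_coset H g).symm]
    exact isCharacter_indFun _ (isCharacter_of_isIrr isIrr_one)
  have hΩΩ : Nat.card (MulAction.orbitRel.Quotient G (Ω × Ω)) = 2 := by
    rw [Nat.card_eq_two_iff]
    obtain ⟨b, hb⟩ : ∃ b : Ω, b ≠ a := by
      haveI : Nontrivial Ω := Finite.one_lt_card_iff_nontrivial.1 (by omega)
      exact exists_ne a
    refine ⟨Quotient.mk'' (a, a), Quotient.mk'' (a, b), fun h => ?_, Set.eq_univ_of_forall fun q => ?_⟩
    · obtain ⟨g, hg⟩ := Quotient.eq''.1 h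
      obtain ⟨h1, h3⟩ := Prod.ext_iff.1 hg
      exact hb (MulAction.injective g (h3.trans h1.symm))
    · induction q using Quotient.inductionOn' with | h x => ?_
      obtain ⟨c, d⟩ := x
      rcases eq_or_ne c d with rfl | hcd
      · obtain ⟨g, hg⟩ := MulAction.exists_smul_eq G a c
        exact Or.inl (Quotient.sound' ⟨g, Prod.ext hg hg⟩)
      · obtain ⟨g, hg1, hg2⟩ := (MulAction.is_two_pretransitive_iff.1 h2) hb.symm hcd
        exact Or.inr (Quotient.sound' ⟨g, Prod.ext hg1 hg2⟩)
  set t := Nat.card (MulAction.orbitRel.Quotient H Ω) with ht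
  have hHΩ : Nat.card (MulAction.orbitRel.Quotient G ((G ⧸ H) × Ω)) = t := by
    rw [ht]
    refine (Nat.card_congr (Equiv.ofBijective (Quotient.map' (fun x : Ω => (((1 : G) : G ⧸ H), x))
      fun x y hxy => ?_) ⟨?_, ?_⟩)).symm
    · obtain ⟨h, hh⟩ := hxy
      exact ⟨h, Prod.ext (MulAction.mem_stabilizer_iff.1
        (by rw [MulAction.stabilizer_quotient]; exact h.2)) hh⟩
    · intro q₁ q₂ h
      induction q₁ using Quotient.inductionOn' with | h x => ?_
      induction q₂ using Quotient.inductionOn' with | h y => ?_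
      obtain ⟨g, hg⟩ := Quotient.eq''.1 h
      obtain ⟨hg1, hg2⟩ := Prod.ext_iff.1 hg
      have hgH : g ∈ MulAction.stabilizer G ((1 : G) : G ⧸ H) := hg1
      rw [MulAction.stabilizer_quotient] at hgH
      exact Quotient.sound' ⟨⟨g, hgH⟩, hg2⟩
    · intro q
      induction q using Quotient.inductionOn' with | h x => ?_
      obtain ⟨c, d⟩ := x
      obtain ⟨g, hg⟩ := MulAction.exists_smul_eq G c ((1 : G) : G ⧸ H)
      exact ⟨Quotient.mk'' (g • d), Quotient.sound' ⟨g, Prod.ext hg rfl⟩⟩
  have h1Ω : classInner π (fun _ => (1 : ℂ)) = 1 := inner_perm_one Ω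
  have h1H : classInner ρ (fun _ => (1 : ℂ)) = 1 := inner_perm_one (G ⧸ H)
  have h1Ω' : classInner (fun _ : G => (1 : ℂ)) π = 1 := by
    have h := h1Ω
    rw [classInner_def] at h ⊢
    simp only [map_one, mul_one, hπ] at h
    simp only [hπ, one_mul, Complex.conj_natCast]
    exact h
  set χ : G → ℂ := π - fun _ => 1 with hχ
  have hχc : IsCharacter G χ := isCharacter_sub_constituent hπc isIrr_one (by rw [h1Ω]; exact one_ne_zero)
  have hχi : IsIrrCharacter G χ := by
    refine isIrr_of_char_norm hχc ?_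
    rw [hχ, classInner_sub_left, classInner_sub_right, classInner_sub_right, h1Ω, h1Ω',
      show classInner π π = ((2 : ℕ) : ℂ) by rw [← hΩΩ]; exact inner_perm Ω Ω, irr_inner_self isIrr_one]
    norm_num
  set σ : G → ℂ := ρ - fun _ => 1 with hσ
  have hσc : IsCharacter G σ := isCharacter_sub_constituent hρc isIrr_one (by rw [h1H]; exact one_ne_zero)
  have hσχ : classInner σ χ = (t : ℂ) - 1 := by
    rw [hσ, hχ, classInner_sub_left, classInner_sub_right, classInner_sub_right, h1H, h1Ω',
      show classInner ρ π = (t : ℂ) by rw [← hHΩ]; exact inner_perm (G ⧸ H) Ω, irr_inner_self isIrr_one]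
    ring
  by_contra hlt
  push Not at hlt
  have hd1 : IsCharacter G (σ - χ) := isCharacter_sub_constituent hσc hχi (by
    rw [hσχ]
    intro h
    have h3 : t = 1 := by exact_mod_cast (sub_eq_zero.1 h)
    omega)
  have hd2 : IsCharacter G (σ - χ - χ) := isCharacter_sub_constituent hd1 hχi (by
    rw [classInner_sub_left, hσχ, irr_inner_self hχi]
    intro h
    have h3 : (t : ℂ) = ((2 : ℕ) : ℂ) := by push_cast; linear_combination h
    have : t = 2 := by exact_mod_cast h3
    omega)
  have hdeg := char_one_eq hd2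
  have hρ1 : ρ 1 = (Nat.card Ω : ℂ) := by
    show (Nat.card (MulAction.fixedBy (G ⧸ H) (1 : G)) : ℂ) = _
    rw [← hidx, H.index_eq_card, MulAction.fixedBy_one_eq_univ]
    simp
  have hπ1 : π 1 = (Nat.card Ω : ℂ) := by
    show (Nat.card (MulAction.fixedBy Ω (1 : G)) : ℂ) = _
    rw [MulAction.fixedBy_one_eq_univ]
    simp
  simp only [Pi.sub_apply, hσ, hχ, hρ1, hπ1] at hdeg
  have h4 : ((charDegree (σ - χ - χ) + Nat.card Ω : ℕ) : ℂ) = ((1 : ℕ) : ℂ) := by
    push_cast
    linear_combination -hdeg
  have := Nat.cast_injective h4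
  omega

end CfsgLib.Base.Small
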